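import Mathlib.Algebra.Module.FinitePresentation
import Mathlib.LinearAlgebra.Isomorphisms

/-!
# Modules over a coherent ring

`IsCoh R M`: every finitely generated submodule of `M` is finitely presented.
-/

set_option autoImplicit false

universe u v

namespace K226.Coherent

variable {R : Type u} [CommRing R]

/-- every finitely generated submodule is finitely presented -/
def IsCoh (R : Type u) [CommRing R] (M : Type v) [AddCommGroup M] [Module R M] : Prop :=
  ∀ N : Submodule R M, N.FG → Module.FinitePresentation R N

variable {M : Type v} [AddCommGroup M] [Module R M] {M' : Type v} [AddCommGroup M'] [Module R M']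
  {M'' : Type v} [AddCommGroup M''] [Module R M'']

theorem IsCoh.of_injective (f : M →ₗ[R] M') (hf : Function.Injective f) (h : IsCoh R M') : IsCoh R M := by
  intro N hN
  have h1 := h (N.map f) (hN.map f)
  exact Module.FinitePresentation.of_equiv (Submodule.equivMapOfInjective f hf N).symm

theorem IsCoh.of_equiv (e : M ≃ₗ[R] M') (h : IsCoh R M) : IsCoh R M' :=
  IsCoh.of_injective e.symm.toLinearMap e.symm.injective h

/-- closure under extensions -/
theorem IsCoh.ext (f : M' →ₗ[R] M) (g : M →ₗ[R] M'') (hf : Function.Injective f) (hfg : Function.Exact f g)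
    (h' : IsCoh R M') (h'' : IsCoh R M'') : IsCoh R M := by
  intro N hN
  let gN : N →ₗ[R] N.map g := g.submoduleMap N
  have hgN : Function.Surjective gN := g.submoduleMap_surjective N
  have h1 : Module.FinitePresentation R (N.map g) := h'' _ (hN.map g)
  have hfin : Module.Finite R N := Module.Finite.iff_fg.2 hN
  have h2 : (LinearMap.ker gN).FG := Module.FinitePresentation.fg_ker gN hgN
  -- the kernel embeds in `M'`
  have h3 : Module.Finite R (LinearMap.ker gN) := Module.Finite.iff_fg.2 h2
  let j : LinearMap.ker gN →ₗ[R] M := N.subtype ∘ₗ (LinearMap.ker gN).subtype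
  have hj : Function.Injective j := N.injective_subtype.comp (LinearMap.ker gN).injective_subtype
  have hjr : LinearMap.range j ≤ LinearMap.range f := by
    rintro _ ⟨x, rfl⟩
    have hx : gN x.1 = 0 := x.2
    have hx' : g (x.1 : M) = 0 := congrArg Subtype.val hx
    exact (hfg _).1 hx'
  let e : M' ≃ₗ[R] LinearMap.range f := LinearEquiv.ofInjective f hf
  let k : LinearMap.ker gN →ₗ[R] M' := e.symm.toLinearMap ∘ₗ (Submodule.inclusion hjr) ∘ₗ j.rangeRestrict
  have hk : Function.Injective k := by
    intro x y hxy
    have h6 := Submodule.inclusion_injective hjr (e.symm.injective hxy)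
    exact hj (congrArg (Subtype.val (p := fun z => z ∈ LinearMap.range j)) h6)
  have h4 : Module.FinitePresentation R (LinearMap.range k) := by
    refine h' _ ?_
    rw [LinearMap.range_eq_map]
    exact Submodule.FG.map _ Module.Finite.fg_top
  have h5 : Module.FinitePresentation R (LinearMap.ker gN) :=
    Module.FinitePresentation.of_equiv (LinearEquiv.ofInjective k hk).symm
  exact Module.finitePresentation_of_ker gN hgN

theorem isCoh_self (hR : ∀ I : Ideal R, I.FG → Module.FinitePresentation R I) : IsCoh R R := hR

theorem isCoh_pi (hR : ∀ I : Ideal R, I.FG → Module.FinitePresentation R I) (n : ℕ) :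
    IsCoh R (Fin n → R) := by
  induction n with
  | zero =>
    intro N _
    have : Subsingleton N := inferInstance
    exact inferInstance
  | succ n ih =>
    let f : R →ₗ[R] (Fin (n + 1) → R) := LinearMap.single R (fun _ => R) 0
    let g : (Fin (n + 1) → R) →ₗ[R] (Fin n → R) := LinearMap.funLeft R R Fin.succ
    have hf : Function.Injective f := fun x y h => by simpa [f] using congrFun h 0
    refine IsCoh.ext (M' := R) (M := Fin (n + 1) → R) f g hf ?_ (isCoh_self hR) ih
    intro x
    constructor
    · intro hx
      refine ⟨x 0, ?_⟩
      ext i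
      refine Fin.cases ?_ (fun i => ?_) i
      · simp [f]
      · have : x i.succ = 0 := congrFun hx i
        simp [f, this]
    · rintro ⟨y, rfl⟩
      ext i
      simp [f, g, LinearMap.funLeft]

/-- finitely presented modules over a coherent ring -/
theorem isCoh_of_finitePresentation (hR : ∀ I : Ideal R, I.FG → Module.FinitePresentation R I)
    [hM : Module.FinitePresentation R M] : IsCoh R M := by
  intro N hN
  obtain ⟨n, f, hf⟩ := Module.Finite.exists_fin' R M
  have hK : (LinearMap.ker f).FG := Module.FinitePresentation.fg_ker f hf
  have hfin : Module.Finite R N := Module.Finite.iff_fg.2 hN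
  -- the preimage of `N`
  let fN : N.comap f →ₗ[R] N := f.restrict (fun x hx => hx)
  have hfN : Function.Surjective fN := by
    intro y
    obtain ⟨x, hx⟩ := hf y
    exact ⟨⟨x, by rw [Submodule.mem_comap, hx]; exact y.2⟩, Subtype.ext hx⟩
  have hker : (LinearMap.ker fN).FG := by
    have h1 : (LinearMap.ker f) ≤ N.comap f := by
      intro x hx
      rw [Submodule.mem_comap, LinearMap.mem_ker.1 hx]
      exact zero_mem _
    have h2 : LinearMap.ker fN = LinearMap.range (Submodule.inclusion h1) := by
      ext x
      constructor
      · intro hx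
        have h3 : f x.1 = 0 := congrArg Subtype.val hx
        exact ⟨⟨x.1, h3⟩, Subtype.ext rfl⟩
      · rintro ⟨y, rfl⟩
        exact Subtype.ext y.2
    have := Module.Finite.iff_fg.2 hK
    rw [h2, LinearMap.range_eq_map]
    exact Submodule.FG.map _ Module.Finite.fg_top
  have hfg : (N.comap f).FG := by
    refine Submodule.fg_of_fg_map_of_fg_inf_ker f ?_ ?_
    · rwa [Submodule.map_comap_eq_of_surjective hf]
    · have h1 : (LinearMap.ker f) ≤ N.comap f := by
        intro x hx
        rw [Submodule.mem_comap, LinearMap.mem_ker.1 hx]
        exact zero_mem _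
      rwa [inf_eq_right.2 h1]
  have h3 := isCoh_pi hR n (N.comap f) hfg
  exact Module.finitePresentation_of_surjective fN hfN hker

end K226.Coherent
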