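import Groth.Agent.CalgB.PsCohGen
import Groth.Agent.DRing.K229.Devissage
import Groth.Agent.LoccohB.DCalc

/-!
# Dévissage for `P`-pseudo-coherence in the derived category of an abelian category

* `pc_single_iff`: `M[-i]` is `m`-pc iff `M[0]` is `(m - i)`-pc;
* `pc_termwise`: a bounded above complex with `K^i` `(m - i)`-pc is `m`-pc;
* `pc_homology`: an object of `D^-` with `H^i` `(m - i)`-pc is `m`-pc.
-/

set_option autoImplicit false

open CategoryTheory CategoryTheory.Limits CategoryTheory.Pretriangulated CategoryTheory.Triangulated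

universe w v u

namespace K226.PCoh

open DerivedCategory CochainComplex Groth.Agent.CalgB.PsCohGen Groth.Agent.CalgB.DerTri

variable {C : Type u} [Category.{v} C] [Abelian C] [HasDerivedCategory.{w} C] {P : ObjectProperty C}

theorem pc_single_iff (m i : ℤ) (M : C) :
    PC P m ((DerivedCategory.singleFunctor C i).obj M) ↔
      PC P (m - i) ((DerivedCategory.singleFunctor C 0).obj M) := by
  have e : ((DerivedCategory.singleFunctor C 0).obj M)⟦-i⟧ ≅ (DerivedCategory.singleFunctor C i).obj M :=
    ((DerivedCategory.singleFunctors C).shiftIso (-i) i 0 (by lia)).app M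
  constructor
  · intro h
    exact PC.of_shift (-i) (m - i) m (by lia) (h.of_iso e.symm)
  · intro h
    exact (h.shift (-i) m (by lia)).of_iso e

/-- `m`-pseudo-coherent objects, as an object property. -/
def pcP (P : ObjectProperty C) (m : ℤ) : ObjectProperty (DerivedCategory C) := fun K => PC P m K

instance (m : ℤ) : (pcP P m).IsClosedUnderIsomorphisms where
  of_iso e h := PC.of_iso e h

lemma isTriangulatedClosed₂ (hP : IsProjClass P) (m : ℤ) : (pcP P m).IsTriangulatedClosed₂ :=
  .mk' fun _ hT h₁ h₃ => PC.obj₂ hP hT h₁ h₃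

lemma containsZero (hP : IsProjClass P) (m : ℤ) : (pcP P m).ContainsZero where
  exists_zero := by
    obtain ⟨Z, hZ⟩ := (inferInstance : HasZeroObject (DerivedCategory C)).zero
    refine ⟨Z, hZ, PC.of_isLE hP ?_⟩
    rw [DerivedCategory.isLE_iff]
    exact fun i _ => Functor.map_isZero _ hZ

/-- an object `K` with a map `K' → K` which is an isomorphism on `H^i` for `i > m` and epi on `H^m`. -/
theorem pc_of_hom (hP : IsProjClass P) {m : ℤ} {K' K : DerivedCategory C} (f : K' ⟶ K)
    (h1 : ∀ i : ℤ, m < i → IsIso ((homologyFunctor C i).map f)) (h2 : Epi ((homologyFunctor C m).map f))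
    (h : PC P m K') : PC P m K := by
  obtain ⟨N, β, γ, hΔ⟩ := distinguished_cocone_triangle f
  have hN : N.IsLE (m - 1) := by
    have := isLE_obj₃_iff hΔ m (m - 1) (by omega)
    exact this.2 ⟨h1, h2⟩
  exact PC.obj₂ hP hΔ h (PC.of_isLE hP hN)

/-- termwise criterion -/
theorem pc_termwise (hP : IsProjClass P) (m : ℤ) (K : CochainComplex C ℤ) (b : ℤ)
    (hb : ∀ i, b < i → IsZero (K.X i))
    (h : ∀ i, PC P (m - i) ((DerivedCategory.singleFunctor C 0).obj (K.X i))) : PC P m (Q.obj K) := by
  have := isTriangulatedClosed₂ hP m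
  have := containsZero hP m
  have h1 : PC P m (Q.obj (sge K m)) := by
    refine K229.Devissage.termwise (pcP P m) (sge K m) m b (fun i hi => ?_) (fun i => ?_)
    · rcases hi with hi | hi
      · exact sge_isZero K m i hi
      · by_cases h : m ≤ i
        · exact IsZero.of_iso (hb i hi) (sgeXIso K m i h)
        · exact sge_isZero K m i (by omega)
    · by_cases hi : m ≤ i
      · refine (pcP P m).prop_of_iso ((DerivedCategory.singleFunctor C i).mapIso (sgeXIso K m i hi)).symm ?_
        exact (pc_single_iff m i _).2 (h i)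
      · exact (pcP P m).prop_of_isZero (Functor.map_isZero _ (sge_isZero K m i (by omega)))
  refine pc_of_hom hP (Q.map (sgeHom K m)) (fun i hi => ?_) ?_ h1
  · exact (isIso_homologyFunctor_map_Q_iff (sgeHom K m) i).2 (quasiIsoAt_sgeHom K m i hi)
  · exact (epi_homologyFunctor_map_Q_iff (sgeHom K m) m).2 (epi_homologyMap_sgeHom K m)

/-- homology criterion -/
theorem pc_homology (hP : IsProjClass P) (m : ℤ) (K : DerivedCategory C) (b : ℤ)
    (hb : ∀ i, b < i → IsZero ((homologyFunctor C i).obj K))
    (h : ∀ i, m ≤ i → PC P (m - i) ((DerivedCategory.singleFunctor C 0).obj ((homologyFunctor C i).obj K))) :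
    PC P m K := by
  have := isTriangulatedClosed₂ hP m
  have := containsZero hP m
  have hT := Groth.Agent.LoccohB.DCalc.triangle_dist K (m - 1) m (by lia)
  have h3 : PC P m ((TStructure.t.truncGE m).obj K) := by
    refine K229.Devissage.homology (pcP P m) _ m b (fun i hi => ?_) (fun i => ?_)
    · by_cases hi' : i < m
      · exact isZero_of_isGE _ m i hi'
      · have := Groth.Agent.LoccohB.DCalc.isIso_homology_truncGEπ K m i (by lia)
        exact (hb i (by lia)).of_iso (asIso ((homologyFunctor C i).map ((TStructure.t.truncGEπ m).app K))).symm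
    · by_cases hi' : i < m
      · exact (pcP P m).prop_of_isZero (Functor.map_isZero _ (isZero_of_isGE _ m i hi'))
      · have := Groth.Agent.LoccohB.DCalc.isIso_homology_truncGEπ K m i (by lia)
        refine (pcP P m).prop_of_iso ((DerivedCategory.singleFunctor C i).mapIso
          (asIso ((homologyFunctor C i).map ((TStructure.t.truncGEπ m).app K)))) ?_
        exact (pc_single_iff m i _).2 (h i (by lia))
  have h1 : ((TStructure.t.truncLE (m - 1)).obj K).IsLE (m - 1) := inferInstance
  exact PC.obj₂ hP hT (PC.of_isLE hP h1) h3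

end K226.PCoh
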