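import Groth.Agent.CalgB.PsCoh
import Groth.Agent.DRing.K226.PCoh
import Groth.Agent.LoccohB.PerfTri
import Groth.Agent.PerfB.DescRing
import Groth.Agent.DRing.K226.Coherent

/-!
# Pseudo-coherent modules and complexes over a ring: dévissage
-/

set_option autoImplicit false

open CategoryTheory CategoryTheory.Limits CategoryTheory.Pretriangulated CategoryTheory.Triangulated

universe u

attribute [local instance] HasDerivedCategory.standard

namespace K226.PCRing

open DerivedCategory Groth.Agent.CalgB.PsCohGen Groth.Agent.CalgB.PsCoh K226.PCoh DRing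

variable {R : Type u} [CommRing R]

lemma subsingleton_HD_iff (K : Dual.D R) (i : ℤ) :
    Subsingleton (Dual.HD R K i) ↔ IsZero ((homologyFunctor (ModuleCat.{u} R) i).obj K) :=
  (ModuleCat.isZero_iff_subsingleton (M := (homologyFunctor (ModuleCat.{u} R) i).obj K)).symm

lemma isLE_inD (M : Type u) [AddCommGroup M] [Module R M] : (Dual.inD R M).IsLE 0 :=
  inferInstanceAs (((singleFunctor (ModuleCat.{u} R) 0).obj (ModuleCat.of R M)).IsLE 0)

/-- any module is `m`-pseudo-coherent for `m > 0`. -/
theorem pcm_of_pos {m : ℤ} (hm : 0 < m) (M : Type u) [AddCommGroup M] [Module R M] :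
    IsPseudoCoherentModule R m M := by
  have := isLE_inD (R := R) M
  refine PC.of_isLE (isProjClass_ffree R) ?_
  rw [DerivedCategory.isLE_iff]
  exact fun i hi => DerivedCategory.isZero_of_isLE _ 0 i (by lia)

theorem pcm_mono {m m' : ℤ} (h : m ≤ m') {M : Type u} [AddCommGroup M] [Module R M]
    (hM : IsPseudoCoherentModule R m M) : IsPseudoCoherentModule R m' M :=
  PC.mono (P := ffree R) h hM

theorem pcm_of_equiv {m : ℤ} {M N : Type u} [AddCommGroup M] [Module R M] [AddCommGroup N] [Module R N]
    (e : M ≃ₗ[R] N) (hM : IsPseudoCoherentModule R m M) : IsPseudoCoherentModule R m N :=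
  PC.of_iso (P := ffree R) (Groth.Agent.LoccohB.PerfTri.inDIso e) hM

theorem pcm_of_free (m : ℤ) (M : Type u) [AddCommGroup M] [Module R M] [Module.Finite R M] [Module.Free R M] :
    IsPseudoCoherentModule R m M :=
  PC.single (isProjClass_ffree R) (F := ModuleCat.of R M) ⟨inferInstance, inferInstance⟩ 0 m

theorem pcm_of_projective (m : ℤ) (M : Type u) [AddCommGroup M] [Module R M] [Module.Finite R M]
    [Module.Projective R M] : IsPseudoCoherentModule R m M :=
  (isPseudoCoherent_iff_fproj m _).2
    (PC.single (isProjClass_fproj R) (F := ModuleCat.of R M) ⟨inferInstance, inferInstance⟩ 0 m)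

section Exact

variable {M' M M'' : Type u} [AddCommGroup M'] [Module R M'] [AddCommGroup M] [Module R M]
  [AddCommGroup M''] [Module R M''] (f : M' →ₗ[R] M) (g : M →ₗ[R] M'')
  (hf : Function.Injective f) (hfg : Function.Exact f g) (hg : Function.Surjective g)

include hf hfg hg

theorem pcm_right {m : ℤ} (h' : IsPseudoCoherentModule R (m + 1) M')
    (h : IsPseudoCoherentModule R m M) : IsPseudoCoherentModule R m M'' := by
  obtain ⟨T, hT, h1, h2, h3⟩ := Groth.Agent.LoccohB.PerfTri.exists_triangle f g hf hfg hg
  have := PC.obj₃ (isProjClass_ffree R) hT (m := m) rfl (by rw [h1]; exact h') (by rw [h2]; exact h)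
  rwa [h3] at this

theorem pcm_mid {m : ℤ} (h' : IsPseudoCoherentModule R m M')
    (h'' : IsPseudoCoherentModule R m M'') : IsPseudoCoherentModule R m M := by
  obtain ⟨T, hT, h1, h2, h3⟩ := Groth.Agent.LoccohB.PerfTri.exists_triangle f g hf hfg hg
  have := PC.obj₂ (isProjClass_ffree R) hT (m := m) (by rw [h1]; exact h') (by rw [h3]; exact h'')
  rwa [h2] at this

theorem pcm_left {m : ℤ} (h : IsPseudoCoherentModule R (m + 1) M)
    (h'' : IsPseudoCoherentModule R m M'') : IsPseudoCoherentModule R (m + 1) M' := by
  obtain ⟨T, hT, h1, h2, h3⟩ := Groth.Agent.LoccohB.PerfTri.exists_triangle f g hf hfg hg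
  have := PC.obj₁ (isProjClass_ffree R) hT (m := m) rfl (by rw [h2]; exact h) (by rw [h3]; exact h'')
  rwa [h1] at this

end Exact

/-- `H^0(M[0]) ≅ M`. -/
noncomputable def homologyIso (M : Type u) [AddCommGroup M] [Module R M] :
    (homologyFunctor (ModuleCat.{u} R) 0).obj (Dual.inD R M) ≅ ModuleCat.of R M :=
  (singleFunctorCompHomologyFunctorIso (ModuleCat.{u} R) 0).app (ModuleCat.of R M)

/-- finite free covers -/
lemma exists_cover (M : Type u) [AddCommGroup M] [Module R M] [Module.Finite R M] :
    ∃ (F : Type u) (_ : AddCommGroup F) (_ : Module R F) (_ : Module.Finite R F) (_ : Module.Free R F)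
      (p : F →ₗ[R] M), Function.Surjective p := by
  obtain ⟨n, f, hf⟩ := Module.Finite.exists_fin' R M
  exact ⟨Fin n → R, inferInstance, inferInstance, inferInstance, inferInstance, f, hf⟩

/-- `M` is `m`-pseudo-coherent iff the kernel of a finite free cover is `(m+1)`-pseudo-coherent. -/
theorem pcm_iff_ker {m : ℤ} {F M : Type u} [AddCommGroup F] [Module R F] [AddCommGroup M] [Module R M]
    [Module.Finite R F] [Module.Free R F] (p : F →ₗ[R] M) (hp : Function.Surjective p) :
    IsPseudoCoherentModule R m M ↔ IsPseudoCoherentModule R (m + 1) (LinearMap.ker p) := by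
  have h1 : Function.Exact (LinearMap.ker p).subtype p := LinearMap.exact_subtype_ker_map p
  constructor
  · intro h
    exact pcm_left (LinearMap.ker p).subtype p (LinearMap.ker p).injective_subtype h1 hp
      (pcm_of_free (m + 1) F) h
  · intro h
    exact pcm_right (LinearMap.ker p).subtype p (LinearMap.ker p).injective_subtype h1 hp h
      (pcm_of_free m F)

theorem pcm_zero_iff (M : Type u) [AddCommGroup M] [Module R M] :
    IsPseudoCoherentModule R 0 M ↔ Module.Finite R M := by
  constructor
  · intro h
    have h1 := finite_homology_top h (isLE_inD M)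
    exact Module.Finite.equiv (homologyIso M).toLinearEquiv
  · intro h
    obtain ⟨F, _, _, _, _, p, hp⟩ := exists_cover (R := R) M
    exact (pcm_iff_ker p hp).2 (pcm_of_pos (by lia) _)

theorem pcm_neg_one_iff (M : Type u) [AddCommGroup M] [Module R M] :
    IsPseudoCoherentModule R (-1) M ↔ Module.FinitePresentation R M := by
  constructor
  · intro h
    have h1 := finitePresentation_homology_top (m := -1) (m' := 0) (by lia) h (isLE_inD M)
    exact Module.FinitePresentation.of_equiv (homologyIso M).toLinearEquiv
  · intro h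
    obtain ⟨F, _, _, _, _, p, hp⟩ := exists_cover (R := R) M
    refine (pcm_iff_ker p hp).2 ?_
    rw [show (-1 : ℤ) + 1 = 0 by lia, pcm_zero_iff]
    exact Module.Finite.iff_fg.2 (Module.FinitePresentation.fg_ker p hp)

/-- finite modules over a Noetherian ring are pseudo-coherent. -/
theorem pcm_of_finite [IsNoetherianRing R] (m : ℤ) (M : Type u) [AddCommGroup M] [Module R M]
    [Module.Finite R M] : IsPseudoCoherentModule R m M := by
  have key : ∀ (n : ℕ) (M : Type u) [AddCommGroup M] [Module R M] [Module.Finite R M],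
      IsPseudoCoherentModule R (-(n : ℤ)) M := by
    intro n
    induction n with
    | zero =>
      intro M _ _ _
      rw [show (-((0 : ℕ) : ℤ)) = 0 by simp, pcm_zero_iff]
      infer_instance
    | succ n ih =>
      intro M _ _ _
      obtain ⟨F, _, _, _, _, p, hp⟩ := exists_cover (R := R) M
      rw [pcm_iff_ker p hp, show (-((n + 1 : ℕ) : ℤ)) + 1 = -(n : ℤ) by push_cast; ring]
      exact ih _
  exact pcm_mono (by lia) (key m.natAbs M)

/-- finitely presented modules over a coherent ring are pseudo-coherent. -/
theorem pcm_of_finitePresentation (hR : ∀ I : Ideal R, I.FG → Module.FinitePresentation R I) (m : ℤ)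
    (M : Type u) [AddCommGroup M] [Module R M] [Module.FinitePresentation R M] :
    IsPseudoCoherentModule R m M := by
  have key : ∀ (n : ℕ) (M : Type u) [AddCommGroup M] [Module R M] [Module.FinitePresentation R M],
      IsPseudoCoherentModule R (-(n : ℤ)) M := by
    intro n
    induction n with
    | zero =>
      intro M _ _ _
      rw [show (-((0 : ℕ) : ℤ)) = 0 by simp, pcm_zero_iff]
      infer_instance
    | succ n ih =>
      intro M _ _ _
      obtain ⟨F, _, _, _, _, p, hp⟩ := exists_cover (R := R) M
      rw [pcm_iff_ker p hp, show (-((n + 1 : ℕ) : ℤ)) + 1 = -(n : ℤ) by push_cast; ring]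
      have : Module.FinitePresentation R F := Module.finitePresentation_of_projective R F
      have : Module.FinitePresentation R (LinearMap.ker p) :=
        K226.Coherent.isCoh_of_finitePresentation hR _ (Module.FinitePresentation.fg_ker p hp)
      exact ih _
  exact pcm_mono (by lia) (key m.natAbs M)

/-- homology criterion, ring version -/
theorem isPseudoCoherent_of_homology (m : ℤ) (K : Dual.D R) (b : ℤ)
    (hb : ∀ i : ℤ, b < i → Subsingleton (Dual.HD R K i))
    (h : ∀ i : ℤ, m ≤ i → IsPseudoCoherentModule R (m - i) (Dual.HD R K i)) : IsPseudoCoherent R m K :=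
  pc_homology (isProjClass_ffree R) m K b (fun i hi => (subsingleton_HD_iff K i).1 (hb i hi)) h

/-- termwise criterion, ring version -/
theorem isPseudoCoherent_of_termwise (m : ℤ) (K : DRing.Cx R) (b : ℤ) (hb : VanishesAbove K b)
    (h : ∀ i : ℤ, IsPseudoCoherentModule R (m - i) (K.X i)) : IsPseudoCoherent R m (toD K) :=
  pc_termwise (isProjClass_ffree R) m K b hb h

theorem isPseudoCoherent'_iff (K : Dual.D R) : IsPseudoCoherent' R K ↔ ∀ m : ℤ, IsPseudoCoherent R m K :=
  (forall_PC_iff (isProjClass_ffree R) K).symm

theorem exists_bound {m : ℤ} {K : Dual.D R} (h : IsPseudoCoherent R m K) :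
    ∃ b : ℤ, ∀ i : ℤ, b < i → Subsingleton (Dual.HD R K i) := by
  obtain ⟨b, hb⟩ := PC.exists_isLE (P := ffree R) h
  exact ⟨b, fun i hi => (subsingleton_HD_iff K i).2 (DerivedCategory.isZero_of_isLE K b i hi)⟩

end K226.PCRing
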