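import Groth.Agent.DRing.K226.PCRing

/-!
# Cohomology of pseudo-coherent complexes over Noetherian and coherent rings
-/

set_option autoImplicit false

open CategoryTheory CategoryTheory.Limits CategoryTheory.Pretriangulated CategoryTheory.Triangulated

universe u

attribute [local instance] HasDerivedCategory.standard

namespace K226.PCHom

open DerivedCategory Groth.Agent.CalgB.PsCohGen Groth.Agent.CalgB.PsCoh K226.PCoh K226.PCRing DRing

variable {R : Type u} [CommRing R]

lemma exists_epi_cycles (E : Cx R) (i : ℤ) :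
    ∃ (f : LinearMap.ker (E.d i (i + 1)).hom →ₗ[R] E.homology i),
      Function.Surjective f ∧ LinearMap.ker f = (LinearMap.range (E.d (i - 1) i).hom).comap
        (LinearMap.ker (E.d i (i + 1)).hom).subtype := by
  have hex : (ShortComplex.mk (E.iCycles i) (E.d i (i + 1)) (E.iCycles_d i (i + 1))).Exact :=
    ShortComplex.exact_of_f_is_kernel _ (E.cyclesIsKernel i (i + 1) (by simp))
  have hr : LinearMap.range (E.iCycles i).hom = LinearMap.ker (E.d i (i + 1)).hom := hex.moduleCat_range_eq_ker
  have hinj : Function.Injective (E.iCycles i).hom := (ModuleCat.mono_iff_injective _).1 inferInstance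
  let e : E.cycles i ≃ₗ[R] LinearMap.ker (E.d i (i + 1)).hom :=
    (LinearEquiv.ofInjective _ hinj) ≪≫ₗ LinearEquiv.ofEq _ _ hr
  have hsurj : Function.Surjective (E.homologyπ i).hom := (ModuleCat.epi_iff_surjective _).1 inferInstance
  have hS : (ShortComplex.mk (E.toCycles (i - 1) i) (E.homologyπ i) (E.toCycles_comp_homologyπ (i - 1) i)).Exact :=
    ShortComplex.exact_of_g_is_cokernel _ (E.homologyIsCokernel (i - 1) i (by simp))
  have hS' : LinearMap.range (E.toCycles (i - 1) i).hom = LinearMap.ker (E.homologyπ i).hom :=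
    hS.moduleCat_range_eq_ker
  have he : ∀ x, ((e x : LinearMap.ker (E.d i (i + 1)).hom) : E.X i) = (E.iCycles i).hom x := fun x => rfl
  have hd : ∀ x, (E.iCycles i).hom ((E.toCycles (i - 1) i).hom x) = (E.d (i - 1) i).hom x := fun x => by
    rw [← LinearMap.comp_apply, ← ModuleCat.hom_comp, E.toCycles_i]
  refine ⟨(E.homologyπ i).hom ∘ₗ e.symm.toLinearMap, hsurj.comp e.symm.surjective, ?_⟩
  ext x
  obtain ⟨y, rfl⟩ := e.surjective x
  rw [LinearMap.mem_ker, LinearMap.comp_apply, LinearEquiv.coe_coe, e.symm_apply_apply, ← LinearMap.mem_ker,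
    ← hS', Submodule.mem_comap, Submodule.subtype_apply, he]
  constructor
  · rintro ⟨z, rfl⟩
    exact ⟨z, (hd z).symm⟩
  · rintro ⟨z, hz⟩
    exact ⟨z, hinj (by rw [hd, hz])⟩

/-- cohomology of a complex of finitely presented modules over a coherent ring is finitely presented. -/
theorem finitePresentation_homology (hR : ∀ I : Ideal R, I.FG → Module.FinitePresentation R I) (E : Cx R)
    (hE : ∀ i, Module.FinitePresentation R (E.X i)) (i : ℤ) : Module.FinitePresentation R (E.homology i) := by
  obtain ⟨f, hf, hk⟩ := exists_epi_cycles E i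
  have h1 := hE i
  have h2 := hE (i + 1)
  have h0 := hE (i - 1)
  have h3 : (LinearMap.range (E.d i (i + 1)).hom).FG := by
    rw [LinearMap.range_eq_map]
    exact Submodule.FG.map _ Module.Finite.fg_top
  have h4 : Module.FinitePresentation R (LinearMap.range (E.d i (i + 1)).hom) :=
    K226.Coherent.isCoh_of_finitePresentation hR _ h3
  have h5 : (LinearMap.ker (E.d i (i + 1)).hom).FG := by
    have := Module.FinitePresentation.fg_ker (E.d i (i + 1)).hom.rangeRestrict
      (LinearMap.surjective_rangeRestrict _)
    rwa [LinearMap.ker_rangeRestrict] at this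
  have h6 : Module.FinitePresentation R (LinearMap.ker (E.d i (i + 1)).hom) :=
    K226.Coherent.isCoh_of_finitePresentation hR _ h5
  refine Module.finitePresentation_of_surjective f hf ?_
  rw [hk]
  have h7 : (LinearMap.range (E.d (i - 1) i).hom).FG := by
    rw [LinearMap.range_eq_map]
    exact Submodule.FG.map _ Module.Finite.fg_top
  refine Submodule.fg_of_fg_map_injective _ (LinearMap.ker (E.d i (i + 1)).hom).injective_subtype ?_
  rw [Submodule.map_comap_eq, Submodule.range_subtype, inf_eq_right.2]
  · exact h7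
  · rintro _ ⟨y, rfl⟩
    rw [LinearMap.mem_ker, ← LinearMap.comp_apply, ← ModuleCat.hom_comp, E.d_comp_d]
    rfl

/-- cohomology of a complex of finite modules over a Noetherian ring is finite. -/
theorem finite_homology [IsNoetherianRing R] (E : Cx R)
    (hE : ∀ i, Module.Finite R (E.X i)) (i : ℤ) : Module.Finite R (E.homology i) := by
  obtain ⟨f, hf, -⟩ := exists_epi_cycles E i
  have h1 := hE i
  exact Module.Finite.of_surjective f hf

/-- comparison of the cohomology of an `m`-pseudo-coherent object with that of a complex of finite free modules. -/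
lemma exists_rep {m : ℤ} {K : Dual.D R} (h : IsPseudoCoherent R m K) :
    ∃ (E : Cx R), TermwiseFiniteFree E ∧ (∀ i : ℤ, m < i → Nonempty (E.homology i ≃ₗ[R] Dual.HD R K i)) ∧
      ∃ f : E.homology m →ₗ[R] Dual.HD R K m, Function.Surjective f := by
  obtain ⟨E, a, b, α, hE, hEP, h1, h2⟩ := h
  refine ⟨E, hEP, fun i hi => ?_, ?_⟩
  · have := h1 i hi
    exact ⟨((homologyFunctorFactors (ModuleCat.{u} R) i).symm.app E ≪≫
      asIso ((homologyFunctor (ModuleCat.{u} R) i).map α)).toLinearEquiv⟩
  · refine ⟨((homologyFunctorFactors (ModuleCat.{u} R) m).inv.app E ≫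
      (homologyFunctor (ModuleCat.{u} R) m).map α).hom, ?_⟩
    have : Epi ((homologyFunctorFactors (ModuleCat.{u} R) m).inv.app E ≫
      (homologyFunctor (ModuleCat.{u} R) m).map α) := epi_comp _ _
    exact (ModuleCat.epi_iff_surjective _).1 this

theorem finite_HD [IsNoetherianRing R] {m : ℤ} {K : Dual.D R} (h : IsPseudoCoherent R m K) (i : ℤ) (hi : m ≤ i) :
    Module.Finite R (Dual.HD R K i) := by
  obtain ⟨E, hE, h1, f, hf⟩ := exists_rep h
  have h2 := finite_homology E (fun i => (hE i).1)
  rcases hi.eq_or_lt with rfl | hi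
  · have := h2 m
    exact Module.Finite.of_surjective f hf
  · obtain ⟨e⟩ := h1 i hi
    have := h2 i
    exact Module.Finite.equiv e

theorem finitePresentation_HD (hR : ∀ I : Ideal R, I.FG → Module.FinitePresentation R I) {m : ℤ} {K : Dual.D R}
    (h : IsPseudoCoherent R m K) :
    Module.Finite R (Dual.HD R K m) ∧ ∀ i : ℤ, m < i → Module.FinitePresentation R (Dual.HD R K i) := by
  obtain ⟨E, hE, h1, f, hf⟩ := exists_rep h
  have h2 := finitePresentation_homology hR E (fun i => by
    obtain ⟨h3, h4⟩ := hE i
    exact Module.finitePresentation_of_projective R _)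
  refine ⟨?_, fun i hi => ?_⟩
  · have := h2 m
    exact Module.Finite.of_surjective f hf
  · obtain ⟨e⟩ := h1 i hi
    have := h2 i
    exact Module.FinitePresentation.of_equiv e

end K226.PCHom
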