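import Groth.Agent.DRing.K227.PerfFlat
import Groth.Agent.CalgB.PsCoh

/-!
# Perfect amplitude from partial pseudo-coherence and tor amplitude

* `flat_coker_iff_of_ge`: for a morphism of bounded above complexes of flat modules which is a quasi-isomorphism in
  degrees `≥ i`, flatness of the cokernels `K^i / im K^{i-1}` on both sides is equivalent.
* `exists_finiteProjective_rep`: an `(m - 1)`-pseudo-coherent object of tor amplitude in `[m, n]` is isomorphic in
  `D(A)` to a complex of finite projective modules vanishing outside `[m, n]`.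
-/

set_option autoImplicit false
universe u

open CategoryTheory CategoryTheory.Limits
attribute [local instance] HasDerivedCategory.standard

namespace K226.TorAmpB

open DRing Groth.Agent Groth.Agent.Flat2C Groth.Agent.Flat2C.TorAmpCone Groth.Agent.Flat2C.TorAmpRestr

section Cone

variable {R : Type u} [CommRing R] {Q P : CochainComplex (ModuleCat.{u} R) ℤ} (f : Q ⟶ P)

/-- The kernels of the differentials of the cone are flat. -/
theorem flat_ker_δ_of_ge {m : ℤ} (hq : ∀ t, m ≤ t → QuasiIsoAt f t) (b : ℤ) (hQ0 : ∀ i, b < i → IsZero (Q.X i)) (hP0 : ∀ i, b < i → IsZero (P.X i))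
    (hQ : ∀ i, Module.Flat R (Q.X i)) (hP : ∀ i, Module.Flat R (P.X i)) (n : ℕ) :
    ∀ i j k : ℤ, i + 1 = j → j + 1 = k → m ≤ j → b < i + n → Module.Flat R (LinearMap.ker (δ f i j k)) := by
  induction n with
  | zero =>
    intro i j k hij hjk hmj hb
    have h1 : Subsingleton (Q.X j) := ModuleCat.subsingleton_of_isZero (hQ0 j (by omega))
    have h2 : Subsingleton (P.X i) := ModuleCat.subsingleton_of_isZero (hP0 i (by omega))
    have h3 : Subsingleton (LinearMap.ker (δ f i j k)) := inferInstance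
    infer_instance
  | succ n ih =>
    intro i j k hij hjk hmj hb
    have h1 := ih j k (k + 1) hjk rfl (by omega) (by omega)
    have hqj := hq j hmj
    have hqk := hq k (by omega)
    have := hQ j
    have := hP i
    have h2 : Module.Flat R (Q.X j × P.X i) := Flat2C.UnivInjMod.flat_prod
    let g : (Q.X j × P.X i) →ₗ[R] LinearMap.ker (δ f j k (k + 1)) :=
      (δ f i j k).codRestrict _ (fun z => δ_δ f i j k (k + 1) z)
    refine Ega3A.FlatSES.flat_left (f := (LinearMap.ker (δ f i j k)).subtype) (g := g)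
      (Submodule.injective_subtype _) ?_ ?_
    · intro z
      constructor
      · intro hz
        exact ⟨⟨z, congrArg Subtype.val hz⟩, rfl⟩
      · rintro ⟨z, rfl⟩
        exact Subtype.ext z.2
    · rintro ⟨z, hz⟩
      obtain ⟨w, hw⟩ := exact_δ f hij hjk rfl z hz
      exact ⟨w, Subtype.ext hw⟩

/-- For a morphism of bounded above complexes of flat modules which is a quasi-isomorphism in degrees `≥ i`, flatness of the cokernels of the
differentials on both sides is equivalent. -/
theorem flat_coker_iff_of_ge {h i : ℤ} (hhi : h + 1 = i) (hq : ∀ t, i ≤ t → QuasiIsoAt f t) (b : ℤ) (hQ0 : ∀ i, b < i → IsZero (Q.X i)) (hP0 : ∀ i, b < i → IsZero (P.X i))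
    (hQ : ∀ i, Module.Flat R (Q.X i)) (hP : ∀ i, Module.Flat R (P.X i)) :
    Module.Flat R (Cok Q h i) ↔ Module.Flat R (Cok P h i) := by
  -- notation: `h, i, j, k` consecutive
  obtain ⟨j, hij⟩ : ∃ j, i + 1 = j := ⟨_, rfl⟩
  obtain ⟨k, hjk⟩ : ∃ k, j + 1 = k := ⟨_, rfl⟩
  obtain ⟨l, hkl⟩ : ∃ l, k + 1 = l := ⟨_, rfl⟩
  have hqi := hq i le_rfl
  have hqj := hq j (by omega)
  have hqk := hq k (by omega)
  have hZ : Module.Flat R (LinearMap.ker (δ f j k l)) :=
    flat_ker_δ_of_ge f hq b hQ0 hP0 hQ hP (b - j + 1).toNat j k l hjk hkl (by omega) (by omega)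
  -- the maps
  let φ : Cok Q h i →ₗ[R] (Q.X j × Cok P h i) :=
    Submodule.liftQ _ ((-(Q.d i j).hom).prod ((Submodule.mkQ _) ∘ₗ (f.f i).hom)) (by
      rintro _ ⟨x, rfl⟩
      refine Prod.ext ?_ ?_
      · change -(Q.d i j).hom ((Q.d h i).hom x) = 0
        rw [d_d_apply, neg_zero]
      · change Submodule.Quotient.mk ((f.f i).hom ((Q.d h i).hom x)) = 0
        rw [Submodule.Quotient.mk_eq_zero, ← comm_apply]
        exact ⟨_, rfl⟩)
  let dP : Cok P h i →ₗ[R] P.X j := Submodule.liftQ _ (P.d i j).hom (by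
    rintro _ ⟨x, rfl⟩
    simp [d_d_apply])
  have hdP : ∀ x, dP (Submodule.Quotient.mk x) = (P.d i j).hom x := fun x => rfl
  let ψ₀ : (Q.X j × Cok P h i) →ₗ[R] (Q.X k × P.X j) :=
    (-(Q.d j k).hom ∘ₗ LinearMap.fst R _ _).prod ((f.f j).hom ∘ₗ LinearMap.fst R _ _ + dP ∘ₗ LinearMap.snd R _ _)
  have hψ₀ : ∀ (y : Q.X j) (p : P.X i), ψ₀ (y, Submodule.Quotient.mk p) = δ f i j k (y, p) := fun _ _ => rfl
  let ψ : (Q.X j × Cok P h i) →ₗ[R] LinearMap.ker (δ f j k l) := ψ₀.codRestrict _ (by
    rintro ⟨y, p⟩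
    obtain ⟨p, rfl⟩ := Submodule.Quotient.mk_surjective _ p
    rw [hψ₀]
    exact δ_δ f i j k l _)
  have hφmk : ∀ x : Q.X i, φ (Submodule.Quotient.mk x) = (-(Q.d i j).hom x, Submodule.Quotient.mk ((f.f i).hom x)) :=
    fun _ => rfl
  have h1 : Function.Injective φ := by
    rw [injective_iff_map_eq_zero]
    intro x hx
    obtain ⟨x, rfl⟩ := Submodule.Quotient.mk_surjective _ x
    rw [hφmk, Prod.mk_eq_zero, neg_eq_zero, Submodule.Quotient.mk_eq_zero] at hx
    obtain ⟨p, hp⟩ := hx.2
    obtain ⟨x', hx'⟩ := injOn_homology f hhi hij x hx.1 p hp.symm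
    rw [Submodule.Quotient.mk_eq_zero]
    exact ⟨x', hx'⟩
  have h2 : Function.Exact φ ψ := by
    rintro ⟨y, p⟩
    obtain ⟨p, rfl⟩ := Submodule.Quotient.mk_surjective _ p
    constructor
    · intro hz
      have hz' : δ f i j k (y, p) = 0 := congrArg Subtype.val hz
      obtain ⟨⟨x, p'⟩, hw⟩ := exact_δ f hhi hij hjk (y, p) hz'
      rw [δ_apply, Prod.mk.injEq] at hw
      refine ⟨Submodule.Quotient.mk x, ?_⟩
      rw [hφmk]
      refine Prod.ext hw.1 ?_
      rw [← hw.2, Submodule.Quotient.mk_add, Prod.snd]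
      have : (Submodule.Quotient.mk ((P.d h i).hom p') : Cok P h i) = 0 := by
        rw [Submodule.Quotient.mk_eq_zero]
        exact ⟨_, rfl⟩
      simp only [this, add_zero]
    · rintro ⟨x, hx⟩
      obtain ⟨x, rfl⟩ := Submodule.Quotient.mk_surjective _ x
      rw [← hx, hφmk]
      apply Subtype.ext
      change ψ₀ _ = 0
      rw [hψ₀, δ_apply]
      refine Prod.ext ?_ ?_
      · simp [d_d_apply]
      · simp [comm_apply]
  have h3 : Function.Surjective ψ := by
    rintro ⟨z, hz⟩
    obtain ⟨⟨y, p⟩, hw⟩ := exact_δ f hij hjk hkl z hz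
    exact ⟨(y, Submodule.Quotient.mk p), Subtype.ext hw⟩
  have h4 := Ega3A.FlatSES.flat_iff h1 h2 h3
  rw [← h4]
  constructor
  · intro _
    exact Module.Flat.of_retract (LinearMap.inr R (Q.X j) (Cok P h i)) (LinearMap.snd R _ _) (by ext; rfl)
  · intro _
    have := hQ j
    exact Flat2C.UnivInjMod.flat_prod


end Cone


variable {A : Type u} [CommRing A]

lemma quasiIsoAt_iff_isIso_Q {K L : Cx A} (f : K ⟶ L) (i : ℤ) :
    QuasiIsoAt f i ↔ IsIso ((DerivedCategory.homologyFunctor (ModuleCat.{u} A) i).map (DerivedCategory.Q.map f)) := by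
  rw [quasiIsoAt_iff_isIso_homologyMap]
  exact (NatIso.isIso_map_iff (DerivedCategory.homologyFunctorFactors (ModuleCat.{u} A) i) f).symm

/-- A map in the derived category from a bounded above complex of projectives lifts to a map of complexes. -/
lemma exists_lift (E F : Cx A) (b : ℤ) (hE : VanishesAbove E b) (hP : ∀ i, Projective (E.X i))
    (α : toD E ⟶ toD F) : ∃ f : E ⟶ F, DerivedCategory.Q.map f = α := by
  have : E.IsStrictlyLE b := (CochainComplex.isStrictlyLE_iff _ _).2 fun i hi => hE i hi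
  have := CochainComplex.isKProjective_of_projective E b
  exact CalgB.DerTri.Q_map_surjective_of_isKProjective E F α

/-- Truncation above. -/
theorem exists_truncation (L : Cx A) (m n : ℤ) (hmn : m ≤ n) (b : ℤ) (h1 : VanishesOutside L m b)
    (h2 : TermwiseFiniteProjective L) (hex : ∀ i, n < i → L.ExactAt i) :
    ∃ E : Cx A, VanishesOutside E m n ∧ TermwiseFiniteProjective E ∧ Nonempty (toD E ≅ toD L) := by
  have hp : ∀ i, Projective (L.X i) := fun i => by
    obtain ⟨_, h⟩ := h2 i
    exact ModuleCat.projective_of_categoryTheory_projective (L.X i)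
  obtain ⟨r, hr⟩ := CalgB.PsCohGen.exists_retraction_cycles L b (fun i hi => h1 i (Or.inr hi)) hp n hex
  have hLE : L.IsLE n := by
    rw [CochainComplex.isLE_iff]
    exact hex
  refine ⟨L.truncLE n, ?_, ?_, ⟨asIso (DerivedCategory.Q.map (L.ιTruncLE n))⟩⟩
  · rintro i (hi | hi)
    · rcases lt_trichotomy i n with h | h | h
      · exact IsZero.of_iso (h1 i (Or.inl hi)) (L.truncLEXIso n i h)
      · omega
      · exact CochainComplex.isZero_of_isStrictlyLE _ n i h
    · exact CochainComplex.isZero_of_isStrictlyLE _ n i hi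
  · intro i
    rcases lt_trichotomy i n with h | h | h
    · have := h2 i
      obtain ⟨h3, h4⟩ := h2 i
      exact ⟨Module.Finite.equiv (L.truncLEXIso n i h).symm.toLinearEquiv,
        Module.Projective.of_equiv' (L.truncLEXIso n i h).symm.toLinearEquiv⟩
    · subst h
      obtain ⟨h3, h4⟩ := h2 i
      have hr' : r.hom ∘ₗ (L.iCycles i).hom = LinearMap.id := by
        rw [← ModuleCat.hom_comp, hr]
        rfl
      have h5 : Module.Finite A (L.cycles i) := Module.Finite.of_surjective r.hom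
        (fun x => ⟨(L.iCycles i).hom x, LinearMap.congr_fun hr' x⟩)
      have h6 : Module.Projective A (L.cycles i) := Module.Projective.of_split (L.iCycles i).hom r.hom hr'
      exact ⟨Module.Finite.equiv (L.truncLEXIsoCycles i).symm.toLinearEquiv,
        Module.Projective.of_equiv' (L.truncLEXIsoCycles i).symm.toLinearEquiv⟩
    · have := ModuleCat.subsingleton_of_isZero
        (CochainComplex.isZero_of_isStrictlyLE (L.truncLE n) n i h)
      exact ⟨inferInstance, inferInstance⟩

/-- An `(m - 1)`-pseudo-coherent object of tor amplitude in `[m, n]` has perfect amplitude in `[m, n]`. -/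
theorem exists_finiteProjective_rep (K : Dual.D A) (m n : ℤ) (hmn : m ≤ n)
    (hpc : IsPseudoCoherent A (m - 1) K) (hT : HasTorAmplitudeIn A m n K) :
    ∃ E : Cx A, VanishesOutside E m n ∧ TermwiseFiniteProjective E ∧ Nonempty (toD E ≅ K) := by
  obtain ⟨E, b, N, α, β, γ, hΔ, hE, hEP, hN⟩ := CalgB.PsCohGen.PC.exists_triangle
    (CalgB.PsCoh.isProjClass_ffree A) ((CalgB.PsCoh.isPseudoCoherent_iff (m - 1) K).1 hpc)
  have hα : ∀ i, m ≤ i → IsIso ((DerivedCategory.homologyFunctor _ i).map α) := by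
    have h3 := (CalgB.DerTri.isLE_obj₃_iff hΔ (m - 1) (m - 1 - 1) (by omega)).1 (by exact hN)
    exact fun i hi => h3.1 i (by omega)
  obtain ⟨F, hF1, hF2, ⟨e⟩⟩ := id hT
  have hEproj : ∀ i, Projective (E.X i) := fun i => (CalgB.PsCoh.isProjClass_ffree A).proj (hEP i)
  obtain ⟨f, hf⟩ := exists_lift E F b (fun i hi => hE i (Or.inr hi)) hEproj (α ≫ e.inv)
  have hq : ∀ t, m ≤ t → QuasiIsoAt f t := by
    intro t ht
    rw [quasiIsoAt_iff_isIso_Q, hf, Functor.map_comp]
    have := hα t ht
    infer_instance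
  have hC : Module.Flat A (Cok E (m - 1) m) := by
    rw [flat_coker_iff_of_ge f (by omega) hq (max b n)
      (fun i hi => hE i (Or.inr (lt_of_le_of_lt (le_max_left _ _) hi)))
      (fun i hi => hF1 i (Or.inr (lt_of_le_of_lt (le_max_right _ _) hi)))
      (fun i => flat_of_projective (hEproj i)) hF2]
    exact K227.PerfFlat.flat_cok_of_isZero F (hF1 (m - 1) (Or.inl (by omega))) (hF2 m)
  have hC' : Module.Flat A (E.opcycles m) := by
    obtain ⟨e1⟩ := nonempty_opcycles_equiv E (show m - 1 + 1 = m by omega)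
    exact Module.Flat.of_linearEquiv e1
  have hfp := PerfC.RingPerf.finitePresentation_opcycles E m (fun i => hEP i)
  have hop : PerfC.RingPerf.finProj A (E.opcycles m) :=
    ⟨inferInstance, Module.Flat.projective_of_finitePresentation⟩
  obtain ⟨e2⟩ := Dcoh.BddCx.nonempty_iso_truncGE E K m
    (fun i hi => @ModuleCat.isZero_of_subsingleton A _ _
      (K227.PerfFlat.subsingleton_HD_of_torAmp hT i (Or.inl hi))) α hα
  have hL1 : VanishesOutside (E.truncGE m) m b := by
    rintro i (hi | hi)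
    · exact (E.truncGE m).isZero_of_isStrictlyGE m i hi
    · exact Dcoh.BddCx.truncGE_isZero_of_lt E m b (fun i hi => hE i (Or.inr hi)) i hi
  have hL2 : TermwiseFiniteProjective (E.truncGE m) := fun i =>
    Dcoh.BddCx.prop_truncGE_X (P := PerfC.RingPerf.finProj A) (fun _ h => PerfC.RingPerf.finProj_of_isZero h)
      E m hop (fun i _ => by
        obtain ⟨h1, h2⟩ := hEP i
        exact ⟨h1, inferInstance⟩) i
  obtain ⟨E', h1, h2, ⟨e3⟩⟩ := exists_truncation (E.truncGE m) m n hmn b hL1 hL2
    (fun i hi => K227.PerfFlat.exactAt_of_torAmp _ (K227.PerfFlat.torAmp_of_iso e2 hT) i (Or.inr hi))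
  exact ⟨E', h1, h2, ⟨e3 ≪≫ e2.symm⟩⟩

end K226.TorAmpB
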