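import Groth.Agent.LoccohB.TenCx
import Groth.Agent.Dcoh.MonCx
import Groth.Agent.DRing.K229.DualMod
import Groth.Prelude.Def_DRing2
import Mathlib.LinearAlgebra.Contraction

/-!
# Dualizable complexes of modules

* `assoc_tmk`, `assoc_inv_tmk`, `leftUnitor_tmk`, `rightUnitor_tmk`: the associator and the unitors of the monoidal category of
  complexes of modules on elements;
* `exists_dualBasis_left`, `exists_dualBasis_right`: dualizable complexes are bounded with finite projective terms.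
-/

set_option autoImplicit false

universe u

open CategoryTheory Limits MonoidalCategory TensorProduct

namespace K226.DualCx

open Groth.Agent.LoccohB.TenCx

variable {A : Type u} [CommRing A]

instance tensorGood : Groth.Agent.Dcoh.MonCx.TensorGood (ModuleCat.{u} A) where
  monPre := inferInstance
  coprod := inferInstance
  zero := inferInstance
  left := inferInstance
  right X := preservesColimits_of_natIso (BraidedCategory.tensorLeftIsoTensorRight X)

lemma tι_associator_hom (K L M : DRing.Cx A) (p q r pq qr n : ℤ) (h₁ : p + q = pq) (h₂ : pq + r = n)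
    (h₃ : q + r = qr) (h₄ : p + qr = n) :
    (tι K L p q pq h₁ ▷ M.X r) ≫ tι (K ⊗ L) M pq r n h₂ ≫ (α_ K L M).hom.f n =
      (α_ (K.X p) (L.X q) (M.X r)).hom ≫ (K.X p ◁ tι L M q r qr h₃) ≫ tι K (L ⊗ M) p qr n h₄ :=
  Groth.Agent.Dcoh.MonCx.ιT_associator_hom K L M p q r pq qr n h₁ h₂ h₃ h₄

lemma tι_associator_inv (K L M : DRing.Cx A) (p q r pq qr n : ℤ) (h₁ : p + q = pq) (h₂ : pq + r = n)
    (h₃ : q + r = qr) (h₄ : p + qr = n) :
    (K.X p ◁ tι L M q r qr h₃) ≫ tι K (L ⊗ M) p qr n h₄ ≫ (α_ K L M).inv.f n =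
      (α_ (K.X p) (L.X q) (M.X r)).inv ≫ (tι K L p q pq h₁ ▷ M.X r) ≫ tι (K ⊗ L) M pq r n h₂ :=
  Groth.Agent.Dcoh.MonCx.ιT_associator_inv K L M p q r pq qr n h₁ h₂ h₃ h₄

lemma assoc_tmk (K L M : DRing.Cx A) (p q r pq qr n : ℤ) (h₁ : p + q = pq) (h₂ : pq + r = n)
    (h₃ : q + r = qr) (h₄ : p + qr = n) (x : K.X p) (y : L.X q) (z : M.X r) :
    ((α_ K L M).hom.f n).hom (tmk (K ⊗ L) M pq r n h₂ (tmk K L p q pq h₁ x y) z) =
      tmk K (L ⊗ M) p qr n h₄ x (tmk L M q r qr h₃ y z) :=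
  congr($(tι_associator_hom K L M p q r pq qr n h₁ h₂ h₃ h₄).hom
    (TensorProduct.tmul A (TensorProduct.tmul A x y) z))

lemma assoc_inv_tmk (K L M : DRing.Cx A) (p q r pq qr n : ℤ) (h₁ : p + q = pq) (h₂ : pq + r = n)
    (h₃ : q + r = qr) (h₄ : p + qr = n) (x : K.X p) (y : L.X q) (z : M.X r) :
    ((α_ K L M).inv.f n).hom (tmk K (L ⊗ M) p qr n h₄ x (tmk L M q r qr h₃ y z)) =
      tmk (K ⊗ L) M pq r n h₂ (tmk K L p q pq h₁ x y) z :=
  congr($(tι_associator_inv K L M p q r pq qr n h₁ h₂ h₃ h₄).hom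
    (TensorProduct.tmul A x (TensorProduct.tmul A y z)))

/-- The unit complex. -/
noncomputable abbrev unitCx (A : Type u) [CommRing A] : DRing.Cx.{u} A := 𝟙_ (DRing.Cx.{u} A)

/-- The degree `0` part of the unit complex. -/
noncomputable def unitIso (A : Type u) [CommRing A] : (unitCx A).X 0 ≅ 𝟙_ (ModuleCat.{u} A) :=
  HomologicalComplex.singleObjXSelf (ComplexShape.up ℤ) 0 (𝟙_ (ModuleCat.{u} A))

/-- The element of the unit complex attached to an element of the ring. -/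
noncomputable def unitEl (r : A) : (unitCx A).X 0 := (unitIso A).inv.hom r

lemma tι_leftUnitor_hom (K : DRing.Cx.{u} A) (n : ℤ) :
    ((unitIso A).inv ▷ (K.X n)) ≫ tι (unitCx A) K 0 n n (zero_add n) ≫ (λ_ K).hom.f n = (λ_ (K.X n)).hom :=
  Groth.Agent.Dcoh.MonCx.ιT_leftUnitor_hom K n

lemma tι_rightUnitor_hom (K : DRing.Cx.{u} A) (n : ℤ) :
    (K.X n ◁ (unitIso A).inv) ≫ tι K (unitCx A) n 0 n (add_zero n) ≫ (ρ_ K).hom.f n = (ρ_ (K.X n)).hom :=
  Groth.Agent.Dcoh.MonCx.ιT_rightUnitor_hom K n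

lemma leftUnitor_tmk (K : DRing.Cx.{u} A) (n : ℤ) (r : A) (x : K.X n) :
    ((λ_ K).hom.f n).hom (tmk (unitCx A) K 0 n n (zero_add n) (unitEl r) x) = r • x :=
  (congr($(tι_leftUnitor_hom K n).hom (TensorProduct.tmul A r x))).trans (TensorProduct.lid_tmul x r)

lemma rightUnitor_tmk (K : DRing.Cx.{u} A) (n : ℤ) (r : A) (x : K.X n) :
    ((ρ_ K).hom.f n).hom (tmk K (unitCx A) n 0 n (add_zero n) x (unitEl r)) = r • x :=
  (congr($(tι_rightUnitor_hom K n).hom (TensorProduct.tmul A x r))).trans (TensorProduct.rid_tmul x r)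

/-- The elements `x ⊗ y` generate the terms of the tensor product. -/
lemma eq_top_of_tmk_mem {K L : DRing.Cx A} {n : ℤ} (S : Submodule A ((K ⊗ L : DRing.Cx A).X n))
    (h : ∀ (p q : ℤ) (hpq : p + q = n) (x : K.X p) (y : L.X q), tmk K L p q n hpq x y ∈ S) : S = ⊤ := by
  have h1 : (ModuleCat.ofHom (X := (K ⊗ L : DRing.Cx A).X n) (Y := (↥((K ⊗ L : DRing.Cx A).X n) ⧸ S)) S.mkQ) =
      ModuleCat.ofHom (X := (K ⊗ L : DRing.Cx A).X n) (Y := (↥((K ⊗ L : DRing.Cx A).X n) ⧸ S)) 0 :=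
    hom_ext_tmk (M := ModuleCat.of A (↥((K ⊗ L : DRing.Cx A).X n) ⧸ S)) fun p q hpq x y =>
      (Submodule.Quotient.mk_eq_zero S).2 (h p q hpq x y)
  rw [← Submodule.ker_mkQ S, LinearMap.ker_eq_top]
  exact congrArg ModuleCat.Hom.hom h1

lemma isZero_unitCx {n : ℤ} (h : n ≠ 0) : IsZero ((unitCx A).X n) :=
  HomologicalComplex.isZero_single_obj_X (ComplexShape.up ℤ) 0 (𝟙_ (ModuleCat.{u} A)) n h

lemma unitEl_hom (z : (unitCx A).X 0) : unitEl ((unitIso A).hom.hom z) = z :=
  congr($((unitIso A).hom_inv_id).hom z)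

/-- A module whose identity is of finite rank is finite projective. -/
lemma finite_projective_of_id_mem {P : Type u} [AddCommGroup P] [Module A P]
    (h : LinearMap.id ∈ LinearMap.range (dualTensorHom A P P)) : Module.Finite A P ∧ Module.Projective A P := by
  classical
  obtain ⟨t, ht⟩ := h
  obtain ⟨S, hS⟩ := TensorProduct.exists_finset t
  refine K229.DualMod.finite_projective_of_dualBasis (ι := S) (fun i => i.1.2) (fun i => i.1.1) fun x => ?_
  have h1 := LinearMap.congr_fun ht x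
  rw [hS, map_sum, LinearMap.sum_apply] at h1
  refine (Finset.sum_coe_sort S (fun i => i.1 x • i.2)).trans (Eq.trans ?_ h1)
  exact Finset.sum_congr rfl fun i _ => (dualTensorHom_apply _ _ _).symm

section Pairing

variable (M N : DRing.Cx.{u} A) [ExactPairing M N]

/-- The unit element. -/
noncomputable def coev : (M ⊗ N : DRing.Cx.{u} A).X 0 := ((η_ M N).f 0).hom (unitEl (1 : A))

/-- The endomorphism of `M^k` attached to an element of `(M ⊗ N)^0`. -/
noncomputable def Ψ (k : ℤ) : (M ⊗ N : DRing.Cx.{u} A).X 0 →ₗ[A] M.X k →ₗ[A] M.X k :=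
  LinearMap.compr₂ (tmk (M ⊗ N) M 0 k k (zero_add k)) (((α_ M N M).hom ≫ (M ◁ ε_ M N) ≫ (ρ_ M).hom).f k).hom

lemma Ψ_coev (k : ℤ) (x : M.X k) : Ψ M N k (coev M N) x = x := by
  have h : η_ M N ▷ M ≫ (α_ M N M).hom ≫ (M ◁ ε_ M N) ≫ (ρ_ M).hom = (λ_ M).hom := by
    have := ExactPairing.evaluation_coevaluation (X := M) (Y := N)
    calc η_ M N ▷ M ≫ (α_ M N M).hom ≫ (M ◁ ε_ M N) ≫ (ρ_ M).hom =
        (η_ M N ▷ M ≫ (α_ M N M).hom ≫ (M ◁ ε_ M N)) ≫ (ρ_ M).hom := by simp only [Category.assoc]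
      _ = ((λ_ M).hom ≫ (ρ_ M).inv) ≫ (ρ_ M).hom := by rw [this]
      _ = (λ_ M).hom := by rw [Category.assoc, Iso.inv_hom_id, Category.comp_id]
  have h1 := whiskerRight_tmk (η_ M N) M 0 k k (zero_add k) (unitEl (1 : A)) x
  have h2 := congr(($(h).f k).hom (tmk (unitCx A) M 0 k k (zero_add k) (unitEl (1 : A)) x))
  rw [leftUnitor_tmk, one_smul] at h2
  refine Eq.trans ?_ h2
  change (((α_ M N M).hom ≫ (M ◁ ε_ M N) ≫ (ρ_ M).hom).f k).hom (tmk (M ⊗ N) M 0 k k (zero_add k) _ x) = _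
  rw [coev, ← h1]
  rfl

/-- The pairing `N^q × M^k → A` for `q + k = 0`. -/
noncomputable def pr (q k : ℤ) (h : q + k = 0) : N.X q →ₗ[A] M.X k →ₗ[A] A :=
  LinearMap.compr₂ (tmk N M q k 0 h) ((unitIso A).hom.hom ∘ₗ ((ε_ M N).f 0).hom)

lemma Ψ_tmk (k p q : ℤ) (hpq : p + q = 0) (m : M.X p) (n : N.X q) (x : M.X k) :
    Ψ M N k (tmk M N p q 0 hpq m n) x = (ρ_ M).hom.f k (tmk M (unitCx A) p (q + k) k (by omega) m
      (((ε_ M N).f (q + k)).hom (tmk N M q k (q + k) rfl n x))) := by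
  have h1 := assoc_tmk M N M p q k 0 (q + k) k hpq (zero_add k) rfl (by omega) m n x
  have h2 := whiskerLeft_tmk M (ε_ M N) p (q + k) k (by omega) m (tmk N M q k (q + k) rfl n x)
  change ((ρ_ M).hom.f k).hom (((M ◁ ε_ M N).f k).hom (((α_ M N M).hom.f k).hom
    (tmk (M ⊗ N) M 0 k k (zero_add k) (tmk M N p q 0 hpq m n) x))) = _
  rw [h1, h2]

lemma Ψ_tmk_of_ne (k p q : ℤ) (hpq : p + q = 0) (hk : p ≠ k) (m : M.X p) (n : N.X q) :
    Ψ M N k (tmk M N p q 0 hpq m n) = 0 := by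
  ext x
  rw [Ψ_tmk]
  have := ModuleCat.subsingleton_of_isZero (isZero_unitCx (A := A) (n := q + k) (by omega))
  rw [Subsingleton.elim (((ε_ M N).f (q + k)).hom (tmk N M q k (q + k) rfl n x)) 0, map_zero]
  exact map_zero _

lemma Ψ_tmk_self (k q : ℤ) (hpq : k + q = 0) (m : M.X k) (n : N.X q) :
    Ψ M N k (tmk M N k q 0 hpq m n) = dualTensorHom A (M.X k) (M.X k) ((pr M N q k (by omega) n) ⊗ₜ m) := by
  ext x
  rw [Ψ_tmk, dualTensorHom_apply]
  have key : ∀ (j : ℤ) (hj : j = 0) (h1 : k + j = k) (h2 : q + k = j),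
      (ρ_ M).hom.f k (tmk M (unitCx A) k j k h1 m (((ε_ M N).f j).hom (tmk N M q k j h2 n x))) =
        (pr M N q k (by omega) n x) • m := by
    intro j hj h1 h2
    subst hj
    rw [← unitEl_hom (((ε_ M N).f 0).hom (tmk N M q k 0 h2 n x))]
    exact rightUnitor_tmk M k _ m
  exact key (q + k) (by omega) (by omega) rfl

lemma mem_range_Ψ (k : ℤ) (t : (M ⊗ N : DRing.Cx.{u} A).X 0) :
    Ψ M N k t ∈ LinearMap.range (dualTensorHom A (M.X k) (M.X k)) := by
  have h := eq_top_of_tmk_mem (K := M) (L := N) (n := 0)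
    ((LinearMap.range (dualTensorHom A (M.X k) (M.X k))).comap (Ψ M N k)) (by
      intro p q hpq m n
      rw [Submodule.mem_comap]
      by_cases h : p = k
      · subst h
        exact ⟨_, (Ψ_tmk_self M N p q hpq m n).symm⟩
      · rw [Ψ_tmk_of_ne M N k p q hpq h]
        exact Submodule.zero_mem _)
  have h1 : t ∈ ((LinearMap.range (dualTensorHom A (M.X k) (M.X k))).comap (Ψ M N k)) := by
    rw [h]; trivial
  exact h1

/-- The submodule of the elements acting nontrivially in only finitely many degrees. -/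
noncomputable def finSub : Submodule A ((M ⊗ N : DRing.Cx.{u} A).X 0) where
  carrier := {t | {k : ℤ | Ψ M N k t ≠ 0}.Finite}
  add_mem' := fun {s t} hs ht => by
    refine (Set.Finite.union hs ht).subset fun k hk => ?_
    by_contra hc
    simp only [Set.mem_union, Set.mem_ofPred_eq, not_or, not_not] at hc
    exact hk (by rw [map_add, hc.1, hc.2, add_zero])
  zero_mem' := by simp
  smul_mem' := fun c t ht => by
    refine Set.Finite.subset ht fun k hk => ?_
    by_contra hc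
    simp only [Set.mem_ofPred_eq, not_not] at hc
    exact hk (by rw [map_smul, hc, smul_zero])

lemma finSub_eq_top : finSub M N = ⊤ := by
  refine eq_top_of_tmk_mem (K := M) (L := N) (n := 0) _ fun p q hpq m n => ?_
  refine (Set.finite_singleton p).subset fun k hk => ?_
  by_contra hc
  exact hk (Ψ_tmk_of_ne M N k p q hpq (fun h => hc h.symm) m n)

include N in
theorem finite_projective_left (k : ℤ) : Module.Finite A (M.X k) ∧ Module.Projective A (M.X k) := by
  refine finite_projective_of_id_mem ?_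
  have h : Ψ M N k (coev M N) = LinearMap.id := LinearMap.ext (Ψ_coev M N k)
  rw [← h]
  exact mem_range_Ψ M N k _

include N in
theorem finite_support_left : {k : ℤ | ¬ Subsingleton (M.X k)}.Finite := by
  have h : coev M N ∈ finSub M N := by rw [finSub_eq_top]; trivial
  refine Set.Finite.subset h fun k hk => ?_
  intro h0
  refine hk ⟨fun x y => ?_⟩
  rw [← Ψ_coev M N k x, ← Ψ_coev M N k y, h0]
  rfl

/-- The endomorphism of `N^k` attached to an element of `(M ⊗ N)^0`. -/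
noncomputable def Φ (k : ℤ) : (M ⊗ N : DRing.Cx.{u} A).X 0 →ₗ[A] N.X k →ₗ[A] N.X k :=
  (LinearMap.compr₂ (tmk N (M ⊗ N) k 0 k (add_zero k))
    (((α_ N M N).inv ≫ (ε_ M N ▷ N) ≫ (λ_ N).hom).f k).hom).flip

lemma Φ_coev (k : ℤ) (x : N.X k) : Φ M N k (coev M N) x = x := by
  have h : N ◁ η_ M N ≫ (α_ N M N).inv ≫ (ε_ M N ▷ N) ≫ (λ_ N).hom = (ρ_ N).hom := by
    have := ExactPairing.coevaluation_evaluation (X := M) (Y := N)
    calc N ◁ η_ M N ≫ (α_ N M N).inv ≫ (ε_ M N ▷ N) ≫ (λ_ N).hom =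
        (N ◁ η_ M N ≫ (α_ N M N).inv ≫ (ε_ M N ▷ N)) ≫ (λ_ N).hom := by simp only [Category.assoc]
      _ = ((ρ_ N).hom ≫ (λ_ N).inv) ≫ (λ_ N).hom := by rw [this]
      _ = (ρ_ N).hom := by rw [Category.assoc, Iso.inv_hom_id, Category.comp_id]
  have h1 := whiskerLeft_tmk N (η_ M N) k 0 k (add_zero k) x (unitEl (1 : A))
  have h2 := congr(($(h).f k).hom (tmk N (unitCx A) k 0 k (add_zero k) x (unitEl (1 : A))))
  rw [rightUnitor_tmk, one_smul] at h2
  refine Eq.trans ?_ h2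
  change (((α_ N M N).inv ≫ (ε_ M N ▷ N) ≫ (λ_ N).hom).f k).hom (tmk N (M ⊗ N) k 0 k (add_zero k) x _) = _
  rw [coev, ← h1]
  rfl

lemma Φ_tmk (k p q : ℤ) (hpq : p + q = 0) (m : M.X p) (n : N.X q) (x : N.X k) :
    Φ M N k (tmk M N p q 0 hpq m n) x = (λ_ N).hom.f k (tmk (unitCx A) N (k + p) q k (by omega)
      (((ε_ M N).f (k + p)).hom (tmk N M k p (k + p) rfl x m)) n) := by
  have h1 := assoc_inv_tmk N M N k p q (k + p) 0 k rfl (by omega) hpq (add_zero k) x m n
  have h2 := whiskerRight_tmk (ε_ M N) N (k + p) q k (by omega) (tmk N M k p (k + p) rfl x m) n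
  change ((λ_ N).hom.f k).hom (((ε_ M N ▷ N).f k).hom (((α_ N M N).inv.f k).hom
    (tmk N (M ⊗ N) k 0 k (add_zero k) x (tmk M N p q 0 hpq m n)))) = _
  rw [h1, h2]

lemma Φ_tmk_of_ne (k p q : ℤ) (hpq : p + q = 0) (hk : q ≠ k) (m : M.X p) (n : N.X q) :
    Φ M N k (tmk M N p q 0 hpq m n) = 0 := by
  ext x
  rw [Φ_tmk]
  have := ModuleCat.subsingleton_of_isZero (isZero_unitCx (A := A) (n := k + p) (by omega))
  rw [Subsingleton.elim (((ε_ M N).f (k + p)).hom (tmk N M k p (k + p) rfl x m)) 0, map_zero,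
    LinearMap.zero_apply]
  exact map_zero _

lemma Φ_tmk_self (k p : ℤ) (hpq : p + k = 0) (m : M.X p) (n : N.X k) :
    Φ M N k (tmk M N p k 0 hpq m n) =
      dualTensorHom A (N.X k) (N.X k) (((pr M N k p (by omega)).flip m) ⊗ₜ n) := by
  ext x
  rw [Φ_tmk, dualTensorHom_apply]
  have key : ∀ (j : ℤ) (hj : j = 0) (h1 : j + k = k) (h2 : k + p = j),
      (λ_ N).hom.f k (tmk (unitCx A) N j k k h1 (((ε_ M N).f j).hom (tmk N M k p j h2 x m)) n) =
        (pr M N k p (by omega) x m) • n := by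
    intro j hj h1 h2
    subst hj
    rw [← unitEl_hom (((ε_ M N).f 0).hom (tmk N M k p 0 h2 x m))]
    exact leftUnitor_tmk N k _ n
  exact key (k + p) (by omega) (by omega) rfl

lemma mem_range_Φ (k : ℤ) (t : (M ⊗ N : DRing.Cx.{u} A).X 0) :
    Φ M N k t ∈ LinearMap.range (dualTensorHom A (N.X k) (N.X k)) := by
  have h := eq_top_of_tmk_mem (K := M) (L := N) (n := 0)
    ((LinearMap.range (dualTensorHom A (N.X k) (N.X k))).comap (Φ M N k)) (by
      intro p q hpq m n
      rw [Submodule.mem_comap]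
      by_cases h : q = k
      · subst h
        exact ⟨_, (Φ_tmk_self M N q p hpq m n).symm⟩
      · rw [Φ_tmk_of_ne M N k p q hpq h]
        exact Submodule.zero_mem _)
  have h1 : t ∈ ((LinearMap.range (dualTensorHom A (N.X k) (N.X k))).comap (Φ M N k)) := by
    rw [h]; trivial
  exact h1

/-- The submodule of the elements acting nontrivially in only finitely many degrees. -/
noncomputable def finSub' : Submodule A ((M ⊗ N : DRing.Cx.{u} A).X 0) where
  carrier := {t | {k : ℤ | Φ M N k t ≠ 0}.Finite}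
  add_mem' := fun {s t} hs ht => by
    refine (Set.Finite.union hs ht).subset fun k hk => ?_
    by_contra hc
    simp only [Set.mem_union, Set.mem_ofPred_eq, not_or, not_not] at hc
    exact hk (by rw [map_add, hc.1, hc.2, add_zero])
  zero_mem' := by simp
  smul_mem' := fun c t ht => by
    refine Set.Finite.subset ht fun k hk => ?_
    by_contra hc
    simp only [Set.mem_ofPred_eq, not_not] at hc
    exact hk (by rw [map_smul, hc, smul_zero])

lemma finSub'_eq_top : finSub' M N = ⊤ := by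
  refine eq_top_of_tmk_mem (K := M) (L := N) (n := 0) _ fun p q hpq m n => ?_
  refine (Set.finite_singleton q).subset fun k hk => ?_
  by_contra hc
  exact hk (Φ_tmk_of_ne M N k p q hpq (fun h => hc h.symm) m n)

include M in
theorem finite_projective_right (k : ℤ) : Module.Finite A (N.X k) ∧ Module.Projective A (N.X k) := by
  refine finite_projective_of_id_mem ?_
  have h : Φ M N k (coev M N) = LinearMap.id := LinearMap.ext (Φ_coev M N k)
  rw [← h]
  exact mem_range_Φ M N k _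

include M in
theorem finite_support_right : {k : ℤ | ¬ Subsingleton (N.X k)}.Finite := by
  have h : coev M N ∈ finSub' M N := by rw [finSub'_eq_top]; trivial
  refine Set.Finite.subset h fun k hk => ?_
  intro h0
  refine hk ⟨fun x y => ?_⟩
  rw [← Φ_coev M N k x, ← Φ_coev M N k y, h0]
  rfl

end Pairing

lemma vanishesOutside_of_finite (K : DRing.Cx.{u} A) (h : {k : ℤ | ¬ Subsingleton (K.X k)}.Finite) :
    ∃ a b : ℤ, DRing.VanishesOutside K a b := by
  obtain ⟨a, ha⟩ := h.bddBelow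
  obtain ⟨b, hb⟩ := h.bddAbove
  refine ⟨a, b, fun i hi => ?_⟩
  have : Subsingleton (K.X i) := by
    by_contra hc
    have h1 := ha hc
    have h2 := hb hc
    omega
  exact ModuleCat.isZero_of_subsingleton _

end K226.DualCx
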