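import Groth.Prelude.Def_DRing4
import Mathlib.Algebra.Homology.HomotopyCategory.KInjective
import Mathlib.Algebra.Category.Ring.Epi

/-!
# Restriction of scalars along an epimorphism of commutative rings
-/

set_option autoImplicit false

universe u

open CategoryTheory CategoryTheory.Limits

namespace K226.EpiRes

open TensorProduct

variable {R S : Type u} [CommRing R] [CommRing S] (φ : R →+* S)

/-- `R`-linear maps between `S`-modules are `S`-linear if `R → S` is an epimorphism. -/
theorem map_smul_of_epi (hφ : Epi (CommRingCat.ofHom φ)) {M N : ModuleCat.{u} S}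
    (f : (ModuleCat.restrictScalars φ).obj M ⟶ (ModuleCat.restrictScalars φ).obj N) (s : S) (m : M) :
    (show N from f.hom (show (ModuleCat.restrictScalars φ).obj M from s • m)) =
      s • (show N from f.hom (show (ModuleCat.restrictScalars φ).obj M from m)) := by
  let _ := φ.toAlgebra
  have he : Algebra.IsEpi R S := CommRingCat.epi_iff_epi.1 hφ
  have h1 := (Algebra.isEpi_iff_forall_one_tmul_eq R S).1 he s
  let _ : Module R N := Module.compHom N φ
  let F : M → N := fun x => f.hom (show (ModuleCat.restrictScalars φ).obj M from x)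
  have hadd : ∀ x y : M, F (x + y) = F x + F y := fun x y => map_add f.hom _ _
  have hsmul : ∀ (r : R) (x : M), F (φ r • x) = φ r • F x := fun r x => map_smul f.hom r _
  let B : S →ₗ[R] S →ₗ[R] N := LinearMap.mk₂ R (fun a b => a • F (b • m))
    (fun a a' b => add_smul a a' (F (b • m)))
    (fun r a b => by
      change (φ r * a) • F (b • m) = φ r • (a • F (b • m))
      rw [mul_smul])
    (fun a b b' => by rw [add_smul, hadd, smul_add])
    (fun r a b => by
      change a • F ((φ r * b) • m) = φ r • (a • F (b • m))
      rw [mul_smul, hsmul, smul_comm])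
  have h2 := congrArg (TensorProduct.lift B) h1
  simp only [TensorProduct.lift.tmul] at h2
  change (1 : S) • F (s • m) = s • F ((1 : S) • m) at h2
  rw [one_smul, one_smul] at h2
  exact h2

theorem full_restrictScalars (hφ : Epi (CommRingCat.ofHom φ)) :
    (ModuleCat.restrictScalars.{u} φ).Full where
  map_surjective {_ _} f :=
    ⟨ModuleCat.ofHom { toFun := fun m => f.hom m
                       map_add' := fun _ _ => map_add f.hom _ _
                       map_smul' := fun s m => map_smul_of_epi φ hφ f s m }, rfl⟩

/-- a fully faithful additive functor reflects null-homotopies. -/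
noncomputable def reflectHomotopy {C D : Type*} [Category C] [Category D] [Preadditive C] [Preadditive D]
    (F : C ⥤ D) [F.Additive] [F.Full] [F.Faithful] {K L : CochainComplex C ℤ} (f g : K ⟶ L)
    (h : Homotopy ((F.mapHomologicalComplex (ComplexShape.up ℤ)).map f)
      ((F.mapHomologicalComplex (ComplexShape.up ℤ)).map g)) : Homotopy f g where
  hom i j := F.preimage (X := K.X i) (Y := L.X j) (h.hom i j)
  zero i j hij := F.map_injective ((F.map_preimage _).trans ((h.zero i j hij).trans (F.map_zero _ _).symm))
  comm i := F.map_injective (by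
    have h1 := h.comm i
    rw [dNext_eq _ (show (ComplexShape.up ℤ).Rel i (i + 1) from rfl),
      prevD_eq _ (show (ComplexShape.up ℤ).Rel (i - 1) i by simp)] at h1
    rw [dNext_eq _ (show (ComplexShape.up ℤ).Rel i (i + 1) from rfl),
      prevD_eq _ (show (ComplexShape.up ℤ).Rel (i - 1) i by simp), F.map_add, F.map_add, F.map_comp,
      F.map_comp]
    refine Eq.trans h1 ?_
    refine congrArg₂ (· + ·) (congrArg₂ (· + ·) (congrArg₂ (· ≫ ·) rfl ?_) (congrArg₂ (· ≫ ·) ?_ rfl)) rfl
    · exact (F.map_preimage (X := K.X (i + 1)) (Y := L.X i) (h.hom (i + 1) i)).symm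
    · exact (F.map_preimage (X := K.X i) (Y := L.X (i - 1)) (h.hom i (i - 1))).symm)

theorem isKInjective (hφ : Epi (CommRingCat.ofHom φ)) (I : DRing.Cx S)
    [CochainComplex.IsKInjective ((DRing.restrictCx φ).obj I)] : CochainComplex.IsKInjective I where
  nonempty_homotopy_zero {K} f hK := by
    have := full_restrictScalars φ hφ
    have hK' : ((DRing.restrictCx φ).obj K).Acyclic := fun n =>
      ShortComplex.Exact.map (hK n) (ModuleCat.restrictScalars.{u} φ)
    have h := CochainComplex.IsKInjective.homotopyZero ((DRing.restrictCx φ).map f) hK'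
    refine ⟨reflectHomotopy (ModuleCat.restrictScalars.{u} φ) f 0 (h.trans (Homotopy.ofEq ?_))⟩
    exact (((ModuleCat.restrictScalars.{u} φ).mapHomologicalComplex (ComplexShape.up ℤ)).map_zero _ _).symm

end K226.EpiRes
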