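import Groth.Agent.DRing.K226.PCRing
import Groth.Agent.PerfB.DescRing
import Mathlib.RingTheory.Flat.FaithfullyFlat.Basic
import Mathlib.RingTheory.Spectrum.Prime.Topology
import Mathlib.RingTheory.Flat.FaithfullyFlat.Algebra

/-!
# Faithfully flat descent of pseudo-coherence for complexes of modules
-/

set_option autoImplicit false

open CategoryTheory CategoryTheory.Limits CategoryTheory.Pretriangulated

universe u

attribute [local instance] HasDerivedCategory.standard

namespace K226.FFDesc

open DerivedCategory DRing

variable {R R' : Type u} [CommRing R] [CommRing R'] [Algebra R R'] [Module.FaithfullyFlat R R']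

theorem isPseudoCoherent_descent (K : Cx R) (m : ℤ)
    (h : IsPseudoCoherent R' m (toD (((ModuleCat.extendScalars.{u, u, u} (algebraMap R R')).mapHomologicalComplex
        (ComplexShape.up ℤ)).obj K))) : IsPseudoCoherent R m (toD K) := by
  have hf : (algebraMap R R').Flat := by
    rw [RingHom.flat_algebraMap_iff]
    infer_instance
  have := ModuleCat.preservesFiniteLimits_extendScalars_of_flat hf
  refine Groth.Agent.PerfB.DescRing.pc_descent_family (ι := Unit) (fun _ => R') (fun _ => algebraMap R R')
    (fun _ => hf) (fun p => ?_) m (toD K) (fun _ => ?_)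
  · obtain ⟨q, hq⟩ := PrimeSpectrum.comap_surjective_of_faithfullyFlat (A := R) (B := R') p
    exact ⟨(), q, hq⟩
  · exact Groth.Agent.PerfB.DescRing.pc_of_iso
      ((ModuleCat.extendScalars.{u, u, u} (algebraMap R R')).mapDerivedCategoryFactors.symm.app K) h

end K226.FFDesc
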