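import Mathlib.RingTheory.TensorProduct.DirectLimitFG
import Mathlib.Algebra.Module.FinitePresentation
import Mathlib.LinearAlgebra.TensorProduct.RightExactness

/-!
# Relations in a tensor product come from a finitely presented module
-/

set_option autoImplicit false

universe u v

namespace K226.FPTensor

open TensorProduct LinearMap Module

variable {R : Type u} [CommRing R] {M : Type u} [AddCommGroup M] [Module R M]
  {A B : Type v} [AddCommGroup A] [Module R A] [AddCommGroup B] [Module R B]

/-- if `z ∈ M ⊗ A` is killed by `1 ⊗ f` then `z` comes from an element of `M' ⊗ A` killed by `1 ⊗ f`, with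
`M' → M` a map from a finitely presented module. -/
theorem exists_finitePresentation (f : A →ₗ[R] B) (z : M ⊗[R] A) (hz : f.lTensor M z = 0) :
    ∃ (M' : Type u) (_ : AddCommGroup M') (_ : Module R M') (_ : Module.FinitePresentation R M')
      (g : M' →ₗ[R] M) (z' : M' ⊗[R] A), g.rTensor A z' = z ∧ f.lTensor M' z' = 0 := by
  obtain ⟨P, hP, t, rfl⟩ := TensorProduct.exists_of_fg z
  have h1 : P.subtype.rTensor B (f.lTensor P t) = 0 := by
    rw [← LinearMap.comp_apply, LinearMap.rTensor_comp_lTensor, ← LinearMap.lTensor_comp_rTensor,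
      LinearMap.comp_apply, hz]
  obtain ⟨Q, hPQ, hQ, h0⟩ := TensorProduct.eq_zero_of_fg_of_subtype_eq_zero hP h1
  have : Module.Finite R Q := Module.Finite.iff_fg.2 hQ
  obtain ⟨k, π, hπ⟩ := Module.Finite.exists_fin' R Q
  obtain ⟨s, hs⟩ := LinearMap.rTensor_surjective A hπ ((Submodule.inclusion hPQ).rTensor A t)
  have h2 : π.rTensor B (f.lTensor (Fin k → R) s) = 0 := by
    rw [← LinearMap.comp_apply, LinearMap.rTensor_comp_lTensor, ← LinearMap.lTensor_comp_rTensor,
      LinearMap.comp_apply, hs, ← LinearMap.comp_apply, LinearMap.lTensor_comp_rTensor,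
      ← LinearMap.rTensor_comp_lTensor, LinearMap.comp_apply, h0]
  obtain ⟨y, hy⟩ := (rTensor_exact B (exact_subtype_ker_map π) hπ _).1 h2
  obtain ⟨N₀, hN₀, y₀, hy₀⟩ := TensorProduct.exists_of_fg y
  have hfg : (N₀.map (LinearMap.ker π).subtype).FG := hN₀.map _
  have hle : N₀.map (LinearMap.ker π).subtype ≤ LinearMap.ker (Q.subtype ∘ₗ π) := by
    rintro _ ⟨x, -, rfl⟩
    have := x.2
    simp only [LinearMap.mem_ker] at this
    simp [this]
  refine ⟨(Fin k → R) ⧸ (N₀.map (LinearMap.ker π).subtype), inferInstance, inferInstance, ?_,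
    Submodule.liftQ _ (Q.subtype ∘ₗ π) hle, (Submodule.mkQ _).rTensor A s, ?_, ?_⟩
  · exact Module.finitePresentation_of_surjective (Submodule.mkQ _) (Submodule.mkQ_surjective _)
      (by rwa [Submodule.ker_mkQ])
  · rw [← LinearMap.comp_apply, ← LinearMap.rTensor_comp, Submodule.liftQ_mkQ, LinearMap.rTensor_comp,
      LinearMap.comp_apply, hs, ← LinearMap.comp_apply, ← LinearMap.rTensor_comp, Submodule.subtype_comp_inclusion]
  · rw [← LinearMap.comp_apply, LinearMap.lTensor_comp_rTensor, ← LinearMap.rTensor_comp_lTensor,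
      LinearMap.comp_apply, ← hy, ← hy₀, ← LinearMap.comp_apply, ← LinearMap.comp_apply, ← LinearMap.rTensor_comp,
      ← LinearMap.rTensor_comp]
    have : (Submodule.mkQ (N₀.map (LinearMap.ker π).subtype) ∘ₗ (LinearMap.ker π).subtype) ∘ₗ N₀.subtype = 0 := by
      ext x
      simp only [LinearMap.comp_apply, Submodule.subtype_apply, LinearMap.zero_apply, Submodule.mkQ_apply,
        Submodule.Quotient.mk_eq_zero]
      exact Submodule.mem_map.2 ⟨x, x.2, rfl⟩
    rw [this, LinearMap.rTensor_zero, LinearMap.zero_apply]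

end K226.FPTensor
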