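import Groth.Prelude.Def_DRing4
import Groth.Agent.PerfB.RingKFlat
import Groth.Agent.Dcoh.KFlatSES
import Groth.Agent.Dcoh.KFlatZd
import Groth.Agent.Dcoh.FlatRes
import Groth.Agent.Flat2C.UnivInjMod
import Mathlib.RingTheory.Flat.Equalizer
import Mathlib.Algebra.Category.ModuleCat.Biproducts

/-!
# K-flat complexes of modules over a commutative ring: the dictionary with `KFl (TR R)`

* `isKF_iff`: the K-flatness used in the milestone statements is `KFl (TR R)`.
* `kfl_of_boundedAbove`, `kfl_ses₁/₂/₃`, `kfl_colimit`, `exists_factorization`, `exists_resolution`.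
-/

set_option autoImplicit false

universe u

open CategoryTheory CategoryTheory.Limits MonoidalCategory HomologicalComplex

namespace K226.KFlat

open Groth.Agent.Dcoh.KFlatAbs Groth.Agent.Dcoh.KFlatSingle Groth.Agent.Dcoh.KFlatBdd
open Groth.Agent.PerfB.RingKFlat

variable {R : Type u} [CommRing R]

/-- the K-flatness property as it appears in the statements -/
def IsKF (K : DRing.Cx R) : Prop :=
  ∀ L : DRing.Cx R, (∀ i : ℤ, IsZero (L.homology i)) → ∀ i : ℤ, IsZero ((L ⊗ K).homology i)

lemma acyclic_iff (L : DRing.Cx R) : L.Acyclic ↔ ∀ i : ℤ, IsZero (L.homology i) :=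
  forall_congr' fun i => HomologicalComplex.exactAt_iff_isZero_homology L i

lemma isKF_iff (K : DRing.Cx R) : IsKF K ↔ KFl (TR R) K := by
  refine forall_congr' fun L => ?_
  rw [acyclic_iff]
  refine imp_congr Iff.rfl ?_
  exact (acyclic_iff (L ⊗ K)).symm

lemma preservesHomology_tensorRight (M : ModuleCat.{u} R) (hM : Module.Flat R M) :
    (tensorRight M).PreservesHomology := by
  have h := preservesHomology_tensorLeft M hM
  exact preservesHomology_of_natIso (BraidedCategory.tensorLeftIsoTensorRight M)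

/-- bounded above complexes of flat modules are K-flat. -/
theorem kfl_of_boundedAbove (P : DRing.Cx R) (b : ℤ) (hb : DRing.VanishesAbove P b)
    (hP : DRing.TermwiseFlat P) : KFl (TR R) P := by
  have : P.IsStrictlyLE b := by
    rw [CochainComplex.isStrictlyLE_iff]
    intro i hi
    exact hb i hi
  have h1 : ∀ M : ModuleCat.{u} R, PreservesColimitsOfShape ℕ ((TR R).obj M) := by
    intro M
    exact inferInstanceAs (PreservesColimitsOfShape ℕ (tensorLeft M))
  have h3 := hasExactColimitsOfShape_nat R
  exact kfl_of_isStrictlyLE P b (fun n => preservesHomology_tensorRight _ (hP n))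

section SES

variable {S : ShortComplex (DRing.Cx R)} (hS : S.ShortExact) (h3 : DRing.TermwiseFlat S.X₃)

include hS h3

lemma ses_tensor (M : ModuleCat.{u} R) (q : ℤ) :
    ((S.map (eval (ModuleCat.{u} R) (ComplexShape.up ℤ) q)).map ((TR R).obj M)).ShortExact := by
  have hq : (S.map (eval (ModuleCat.{u} R) (ComplexShape.up ℤ) q)).ShortExact :=
    hS.map_of_exact (eval _ _ q)
  have hinj : Function.Injective (S.f.f q).hom := (ModuleCat.mono_iff_injective _).1 hq.mono_f
  have hsurj : Function.Surjective (S.g.f q).hom := (ModuleCat.epi_iff_surjective _).1 hq.epi_g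
  have hex : Function.Exact (S.f.f q).hom (S.g.f q).hom :=
    (ShortComplex.ShortExact.moduleCat_exact_iff_function_exact _).1 hq.exact
  have := h3 q
  have h1 := LinearMap.lTensor_injective_of_exact_of_flat (S.g.f q).hom hsurj (S.f.f q).hom hinj hex M
  refine { exact := ?_, mono_f := ?_, epi_g := ?_ }
  · rw [ShortComplex.ShortExact.moduleCat_exact_iff_function_exact]
    exact lTensor_exact M hex hsurj
  · exact (ModuleCat.mono_iff_injective _).2 h1
  · exact (ModuleCat.epi_iff_surjective _).2 (LinearMap.lTensor_surjective M hsurj)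

lemma kfl_ses₁ (h₂ : KFl (TR R) S.X₂) (h₃ : KFl (TR R) S.X₃) : KFl (TR R) S.X₁ :=
  Groth.Agent.Dcoh.KFlatSES.KFl.ses₁ (ses_tensor hS h3) h₂ h₃

lemma kfl_ses₂ (h₁ : KFl (TR R) S.X₁) (h₃ : KFl (TR R) S.X₃) : KFl (TR R) S.X₂ :=
  Groth.Agent.Dcoh.KFlatSES.KFl.ses₂ (ses_tensor hS h3) h₁ h₃

lemma kfl_ses₃ (h₁ : KFl (TR R) S.X₁) (h₂ : KFl (TR R) S.X₂) : KFl (TR R) S.X₃ :=
  Groth.Agent.Dcoh.KFlatSES.KFl.ses₃ (ses_tensor hS h3) h₁ h₂

end SES

/-- filtered colimits of K-flat complexes are K-flat. -/
theorem kfl_colimit {J : Type u} [SmallCategory J] [IsFiltered J] (F : J ⥤ DRing.Cx R)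
    (hF : ∀ j, KFl (TR R) (F.obj j)) {c : Cocone F} (hc : IsColimit c) : KFl (TR R) c.pt := by
  have h1 : ∀ M : ModuleCat.{u} R, PreservesColimitsOfShape J ((TR R).obj M) := by
    intro M
    exact inferInstanceAs (PreservesColimitsOfShape J (tensorLeft M))
  exact KFl.of_isColimit (T := TR R) (cK := c) hc hF

/-- flat modules as an object property -/
def flatP (R : Type u) [CommRing R] : ObjectProperty (ModuleCat.{u} R) := fun M => Module.Flat R M

lemma flat_of_iso {M N : ModuleCat.{u} R} (e : M ≅ N) (h : Module.Flat R M) : Module.Flat R N :=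
  Module.Flat.of_linearEquiv e.symm.toLinearEquiv

instance : (flatP R).IsClosedUnderIsomorphisms where
  of_iso e h := flat_of_iso e h

lemma enough_flatP (R : Type u) [CommRing R] : Groth.Agent.Dcoh.LeftRes.Enough (flatP R) := fun M => by
  obtain ⟨p⟩ := EnoughProjectives.presentation M
  have := p.projective
  have h : Module.Projective R p.p := inferInstance
  exact ⟨p.p, p.f, (inferInstance : Module.Flat R p.p), p.epi⟩

lemma flatP_biprod (M N : ModuleCat.{u} R) (hM : flatP R M) (hN : flatP R N) : flatP R (M ⊞ N) := by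
  have h1 : Module.Flat R M := hM
  have h2 : Module.Flat R N := hN
  exact flat_of_iso (M := ModuleCat.of R (M × N)) (ModuleCat.biprodIsoProd M N).symm
    (Groth.Agent.Flat2C.UnivInjMod.flat_prod (A := R) (M := M) (F := N))

lemma flatP_colimit (S : ℕ ⥤ ModuleCat.{u} R) (h : ∀ n, flatP R (S.obj n)) : flatP R (colimit S) := by
  have := hasExactColimitsOfShape_nat R
  have h1 : ∀ M : ModuleCat.{u} R, PreservesColimitsOfShape ℕ (tensorRight M) := by
    intro M
    have : PreservesColimitsOfShape ℕ (tensorLeft M) := inferInstance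
    exact preservesColimitsOfShape_of_natIso (BraidedCategory.tensorLeftIsoTensorRight M)
  exact Groth.Agent.Dcoh.FlatRes.flat_pt_of_isColimit S h (colimit.isColimit S)

lemma hasExactColimitsOfShape_int (R : Type u) [CommRing R] :
    HasExactColimitsOfShape (Discrete ℤ) (ModuleCat.{u} R) := by
  have : AB4OfSize.{0} (ModuleCat.{u} R) := inferInstance
  infer_instance

/-- factorization: any `a : K ⟶ G` is `b ≫ c` with `c` a quasi-isomorphism. -/
theorem exists_factorization {K G : DRing.Cx R} (a : K ⟶ G) :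
    ∃ (N : DRing.Cx R) (b : K ⟶ N) (c : N ⟶ G), b ≫ c = a ∧ QuasiIso c ∧
      (KFl (TR R) K → KFl (TR R) N) ∧ (DRing.TermwiseFlat K → DRing.TermwiseFlat N) := by
  have h0 := hasExactColimitsOfShape_nat R
  have h1 : ∀ M : ModuleCat.{u} R, PreservesColimitsOfShape ℕ ((TR R).obj M) := fun M =>
    inferInstanceAs (PreservesColimitsOfShape ℕ (tensorLeft M))
  have h2 : ∀ M : ModuleCat.{u} R, PreservesColimitsOfShape (Discrete ℤ) ((TR R).obj M) := fun M =>
    inferInstanceAs (PreservesColimitsOfShape (Discrete ℤ) (tensorLeft M))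
  have h3 := hasExactColimitsOfShape_int R
  exact Groth.Agent.Dcoh.KFlatZd.exists_factorization (T := TR R) (P := flatP R) (enough_flatP R)
    (fun M hM => preservesHomology_tensorRight M hM) flatP_biprod flatP_colimit a

/-- K-flat resolutions with flat terms, degreewise epi. -/
theorem exists_resolution (G : DRing.Cx R) :
    ∃ (N : DRing.Cx R) (c : N ⟶ G), QuasiIso c ∧ (∀ n, Epi (c.f n)) ∧
      KFl (TR R) N ∧ DRing.TermwiseFlat N := by
  have h0 := hasExactColimitsOfShape_nat R
  have h1 : ∀ M : ModuleCat.{u} R, PreservesColimitsOfShape ℕ ((TR R).obj M) := fun M =>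
    inferInstanceAs (PreservesColimitsOfShape ℕ (tensorLeft M))
  have h2 : ∀ M : ModuleCat.{u} R, PreservesColimitsOfShape (Discrete ℤ) ((TR R).obj M) := fun M =>
    inferInstanceAs (PreservesColimitsOfShape (Discrete ℤ) (tensorLeft M))
  have h3 := hasExactColimitsOfShape_int R
  exact Groth.Agent.Dcoh.KFlatZd.exists_resolution (T := TR R) (P := flatP R) (enough_flatP R)
    (fun M hM => preservesHomology_tensorRight M hM) flatP_biprod flatP_colimit G

end K226.KFlat
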