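import Groth.Agent.DRing.K226.KFlat

/-!
# Base change of K-flat complexes along `ModuleCat.extendScalars`
-/

set_option autoImplicit false

universe u

open CategoryTheory CategoryTheory.Limits MonoidalCategory HomologicalComplex

namespace K226.KFlat

open Groth.Agent.Dcoh.KFlatAbs Groth.Agent.PerfB.RingKFlat TensorProduct

variable {R S : Type u} [CommRing R] [CommRing S]

section

variable (φ : R →+* S)

/-- `ModuleCat.extendScalars φ` versus `ext R S`. -/
noncomputable def extEquiv (M : ModuleCat.{u} R) :
    letI := φ.toAlgebra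
    ((ModuleCat.extendScalars.{u, u, u} φ).obj M : ModuleCat.{u} S) ≃ₗ[S] ((ext R S).obj M : ModuleCat.{u} S) :=
  letI := φ.toAlgebra
  { AddEquiv.refl (S ⊗[R] M) with map_smul' := fun _ _ => rfl }

noncomputable def extIso :
    letI := φ.toAlgebra
    ModuleCat.extendScalars.{u, u, u} φ ≅ ext R S :=
  letI := φ.toAlgebra
  NatIso.ofComponents (fun M => (extEquiv φ M).toModuleIso) (fun {M N} f => by
    apply ModuleCat.ExtendScalars.hom_ext
    intro m
    rfl)

/-- base change of a K-flat complex is K-flat. -/
theorem kfl_extendScalars (P : DRing.Cx R) (hP : KFl (TR R) P) :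
    KFl (TR S) (((ModuleCat.extendScalars.{u, u, u} φ).mapHomologicalComplex (ComplexShape.up ℤ)).obj P) := by
  letI := φ.toAlgebra
  exact (kfl_ext S P hP).of_iso
    ((NatIso.mapHomologicalComplex (extIso φ) (ComplexShape.up ℤ)).app P).symm

/-- base change of an acyclic K-flat complex is acyclic. -/
theorem acyclic_extendScalars (P : DRing.Cx R) (hP : KFl (TR R) P) (hP' : P.Acyclic) :
    (((ModuleCat.extendScalars.{u, u, u} φ).mapHomologicalComplex (ComplexShape.up ℤ)).obj P).Acyclic := by
  letI := φ.toAlgebra
  exact Groth.Agent.Dcoh.KFlatSingle.acyclic_of_iso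
    ((NatIso.mapHomologicalComplex (extIso φ) (ComplexShape.up ℤ)).app P).symm (acyclic_ext S P hP hP')

end

end K226.KFlat
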