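import Groth.Agent.DRing.K226.KFlatSymm
import Groth.Agent.DRing.K226.FPTensor
import Groth.Agent.Sga4h.CanonColim

/-!
# Complexes `K` with `K ⊗ M` acyclic for all (finitely presented) modules `M`

* `acyclic_tensorRight_of_fp`: finitely presented modules suffice;
* `acyclic_tensor_of_modules`: then `K ⊗ L` is acyclic for every complex `L`;
* `kfl_of_fp`: `K` is K-flat.
-/

set_option autoImplicit false

universe u

open CategoryTheory CategoryTheory.Limits MonoidalCategory HomologicalComplex

namespace K226.KFlat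

open Groth.Agent.Dcoh.KFlatAbs Groth.Agent.Dcoh.KFlatSingle Groth.Agent.Dcoh.KFlatBdd
open Groth.Agent.PerfB.RingKFlat Groth.Agent.Dcoh.CxFun Groth.Agent.Dcoh.Sigma Groth.Agent.Dcoh

variable {R : Type u} [CommRing R]

/-- exactness of a complex of modules, elementwise. -/
lemma exactAt_iff_elem {K : DRing.Cx R} {i j k : ℤ} (hij : i + 1 = j) (hjk : j + 1 = k) :
    K.ExactAt j ↔ ∀ x : K.X j, (K.d j k).hom x = 0 → ∃ y : K.X i, (K.d i j).hom y = x := by
  rw [K.exactAt_iff' i j k (by simp; lia) (by simp; lia), ShortComplex.moduleCat_exact_iff]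
  rfl

section Dev

variable (K : DRing.Cx R)
  (hK : ∀ M : ModuleCat.{u} R, (((tensorRight M).mapHomologicalComplex (ComplexShape.up ℤ)).obj K).Acyclic)

include hK

lemma dev_single (M : ModuleCat.{u} R) (n : ℤ) :
    acyclicMap ((TR R).map₂CochainComplex.obj K)
      ((HomotopyCategory.quotient _ _).obj ((single (ModuleCat.{u} R) (ComplexShape.up ℤ) n).obj M)) := by
  have h0 : acyclicMap ((TR R).map₂CochainComplex.obj K)
      ((HomotopyCategory.quotient _ _).obj ((single (ModuleCat.{u} R) (ComplexShape.up ℤ) 0).obj M)) := by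
    rw [acyclicMap_iff]
    exact acyclic_of_iso (singleIso (TR R) K M) (hK M)
  have h1 := ObjectProperty.le_shift (acyclicMap ((TR R).map₂CochainComplex.obj K)) (-n) _ h0
  refine ObjectProperty.prop_of_iso _ ?_ h1
  exact ((HomotopyCategory.quotient (ModuleCat.{u} R) (ComplexShape.up ℤ)).commShiftIso (-n)).symm.app _ ≪≫
    (HomotopyCategory.quotient _ _).mapIso
      (((CochainComplex.singleFunctors (ModuleCat.{u} R)).shiftIso (-n) n 0 (by lia)).app M)

lemma dev_sig (L : DRing.Cx R) (b : ℤ) [L.IsStrictlyLE b] (m : ℕ) :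
    acyclicMap ((TR R).map₂CochainComplex.obj K) ((HomotopyCategory.quotient _ _).obj (sig L (b + 1 - m))) := by
  induction m with
  | zero =>
    rw [acyclicMap_iff]
    have h : IsZero (((TR R).map₂CochainComplex.obj K).obj (sig L (b + 1 - (0 : ℕ)))) :=
      Functor.map_isZero _ (isZero_sig_of_isStrictlyLE L (b := b) (by simp))
    intro n
    rw [HomologicalComplex.exactAt_iff_isZero_homology]
    exact (HomologicalComplex.homologyFunctor _ (ComplexShape.up ℤ) n).map_isZero h
  | succ m hm =>
    have h1 : acyclicMap ((TR R).map₂CochainComplex.obj K)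
        ((HomotopyCategory.quotient _ _).obj (sig L (b - m + 1))) := by
      rwa [show b - m + 1 = b + 1 - m by lia]
    have h2 := dev_single K hK (L.X (b - m)) (b - m)
    have hT : CochainComplex.trianglehOfDegreewiseSplit (sigShort L (b - m)) (sigSplitting L (b - m)) ∈
        Pretriangulated.distinguishedTriangles :=
      (HomotopyCategory.distinguished_iff_iso_trianglehOfDegreewiseSplit _).2 ⟨_, _, ⟨Iso.refl _⟩⟩
    have h3 := ObjectProperty.ext_of_isTriangulatedClosed₂ _ _ hT h1 h2
    rw [show b + 1 - ((m + 1 : ℕ) : ℤ) = b - m by lia]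
    exact h3

lemma dev_bdd (L : DRing.Cx R) (b : ℤ) [L.IsStrictlyLE b] :
    (((TR R).map₂CochainComplex.obj K).obj L).Acyclic := by
  have h1 : ∀ M : ModuleCat.{u} R, PreservesColimitsOfShape ℕ ((TR R).obj M) := fun M =>
    inferInstanceAs (PreservesColimitsOfShape ℕ (tensorLeft M))
  have h3 := hasExactColimitsOfShape_nat R
  have := preservesColimitsOfShape_obj (TR R) ℕ K
  exact HomColim.acyclic_of_isColimit (isColimitOfPreserves ((TR R).map₂CochainComplex.obj K)
    (isColimitSigCocone L b)) (fun m => (acyclicMap_iff _ _).1 (dev_sig K hK L b m))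

/-- `K ⊗ L` is acyclic for all complexes `L` if it is so for all modules `L`. -/
theorem acyclic_tensor_of_modules (L : DRing.Cx R) : (K ⊗ L : DRing.Cx R).Acyclic := by
  have h1 : ∀ M : ModuleCat.{u} R, PreservesColimitsOfShape ℕ ((TR R).obj M) := fun M =>
    inferInstanceAs (PreservesColimitsOfShape ℕ (tensorLeft M))
  have h3 := hasExactColimitsOfShape_nat R
  have := preservesColimitsOfShape_obj (TR R) ℕ K
  refine HomColim.acyclic_of_isColimit (isColimitOfPreserves ((TR R).map₂CochainComplex.obj K)
    (Groth.Agent.Sga4h.CanonColim.isColimitCocone L)) (fun m => ?_)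
  have := Groth.Agent.Sga4h.CanonColim.isStrictlyLE_truncLE L m
  exact dev_bdd K hK (L.truncLE m) m

end Dev

/-- finitely presented modules suffice. -/
theorem acyclic_tensorRight_of_fp (K : DRing.Cx R)
    (hK : ∀ (M : Type u) [AddCommGroup M] [Module R M], Module.FinitePresentation R M →
      (DRing.tensorCx K (ModuleCat.of R M)).Acyclic) (M : ModuleCat.{u} R) :
    (DRing.tensorCx K M).Acyclic := by
  intro n
  rw [exactAt_iff_elem (i := n - 1) (k := n + 1) (by lia) rfl]
  intro x hx
  change TensorProduct R (K.X n) M at x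
  change (K.d n (n + 1)).hom.rTensor M x = 0 at hx
  have hx' : (K.d n (n + 1)).hom.lTensor M (TensorProduct.comm R _ _ x) = 0 := by
    rw [← LinearMap.comm_comp_rTensor_comp_comm_eq]
    simp [hx]
  obtain ⟨M', _, _, hM', g, z, hz, hz'⟩ := K226.FPTensor.exists_finitePresentation _ _ hx'
  have h1 := hK M' hM' n
  rw [exactAt_iff_elem (i := n - 1) (k := n + 1) (by lia) rfl] at h1
  obtain ⟨y, hy⟩ := h1 (TensorProduct.comm R _ _ z) (by
    change (K.d n (n + 1)).hom.rTensor M' (TensorProduct.comm R _ _ z) = 0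
    rw [← LinearMap.comm_comp_lTensor_comp_comm_eq]
    simp [hz'])
  change TensorProduct R (K.X (n - 1)) M' at y
  change (K.d (n - 1) n).hom.rTensor M' y = _ at hy
  refine ⟨g.lTensor _ y, ?_⟩
  change (K.d (n - 1) n).hom.rTensor M (g.lTensor _ y) = x
  rw [← LinearMap.comp_apply, LinearMap.rTensor_comp_lTensor, ← LinearMap.lTensor_comp_rTensor,
    LinearMap.comp_apply, hy]
  apply (TensorProduct.comm R _ _).injective
  rw [← hz]
  have : g.lTensor (K.X n) = (TensorProduct.comm R M (K.X n)).toLinearMap ∘ₗ g.rTensor (K.X n) ∘ₗ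
      (TensorProduct.comm R (K.X n) M').toLinearMap := by
    ext; rfl
  rw [this]
  simp

theorem kfl_of_fp (K : DRing.Cx R)
    (hK : ∀ (M : Type u) [AddCommGroup M] [Module R M], Module.FinitePresentation R M →
      (DRing.tensorCx K (ModuleCat.of R M)).Acyclic) : KFl (TR R) K := fun L _ =>
  acyclic_of_iso (tensorSymm K L) (acyclic_tensor_of_modules K (acyclic_tensorRight_of_fp K hK) L)

end K226.KFlat
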