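import Groth.Agent.DRing.K226.KFlat
import Groth.Agent.Dcoh.BiNat

/-!
# Symmetry of the tensor product of complexes of modules, and quasi-isomorphisms

* `tensorSymm K L : K ⊗ L ≅ L ⊗ K`, natural;
* `quasiIso_whiskerRight`, `quasiIso_whiskerLeft`: tensoring with a K-flat complex preserves quasi-isomorphisms;
* `quasiIso_whiskerLeft_of_kfl`: `L ◁ α` is a quasi-isomorphism for a quasi-isomorphism `α` of K-flat complexes.
-/

set_option autoImplicit false

universe u

open CategoryTheory CategoryTheory.Limits MonoidalCategory HomologicalComplex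

namespace K226.KFlat

open Groth.Agent.Dcoh.KFlatAbs Groth.Agent.Dcoh.KFlatSingle Groth.Agent.Dcoh.KFlatBdd
open Groth.Agent.PerfB.RingKFlat

variable {R : Type u} [CommRing R]

/-- symmetry of the tensor bifunctor -/
noncomputable def trFlipIso (R : Type u) [CommRing R] : (TR R).flip ≅ TR R :=
  NatIso.ofComponents (fun M => BraidedCategory.tensorLeftIsoTensorRight M |>.symm)
    (fun {M M'} f => by
      ext N : 2
      exact BraidedCategory.braiding_naturality_right N f)

/-- `K ⊗ L ≅ L ⊗ K` for complexes, naturally in both variables. -/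
noncomputable def cxSymm (R : Type u) [CommRing R] :
    (TR R).map₂CochainComplex ≅ (TR R).map₂CochainComplex.flip :=
  Groth.Agent.Dcoh.BiNat.symmNatIso (TR R) (trFlipIso R)

/-- `K ⊗ L ≅ L ⊗ K` for complexes. -/
noncomputable def tensorSymm (K L : DRing.Cx R) : (K ⊗ L : DRing.Cx R) ≅ (L ⊗ K : DRing.Cx R) :=
  ((cxSymm R).app K).app L

/-- `- ⊗ K ≅ K ⊗ -` -/
noncomputable def tensorRightIso (K : DRing.Cx R) :
    (tensorRight K : DRing.Cx R ⥤ DRing.Cx R) ≅ tensorLeft K :=
  NatIso.ofComponents (fun L => tensorSymm L K) (fun {L L'} f => by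
    have h := (cxSymm R).hom.naturality f
    exact congr_app h K)

lemma tensorSymm_naturality_right (K : DRing.Cx R) {L L' : DRing.Cx R} (f : L ⟶ L') :
    (K ◁ f) ≫ (tensorSymm K L').hom = (tensorSymm K L).hom ≫ (f ▷ K) :=
  ((cxSymm R).app K).hom.naturality f

/-- K-flat complexes are K-flat in the first variable. -/
lemma acyclic_left {K : DRing.Cx R} (hK : KFl (TR R) K) (L : DRing.Cx R) (hL : L.Acyclic) :
    (K ⊗ L : DRing.Cx R).Acyclic :=
  acyclic_of_iso (tensorSymm L K) (hK L hL)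

/-- tensoring on the right with a K-flat complex preserves quasi-isomorphisms. -/
theorem quasiIso_whiskerRight {K : DRing.Cx R} (hK : KFl (TR R) K) {L L' : DRing.Cx R} (f : L ⟶ L')
    [QuasiIso f] : QuasiIso (f ▷ K : (L ⊗ K : DRing.Cx R) ⟶ (L' ⊗ K : DRing.Cx R)) :=
  hK.quasiIso f

/-- tensoring on the left with a K-flat complex preserves quasi-isomorphisms. -/
theorem quasiIso_whiskerLeft {K : DRing.Cx R} (hK : KFl (TR R) K) {L L' : DRing.Cx R} (f : L ⟶ L')
    [QuasiIso f] : QuasiIso (K ◁ f : (K ⊗ L : DRing.Cx R) ⟶ (K ⊗ L' : DRing.Cx R)) :=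
  Groth.Agent.Dcoh.CxFun.quasiIso_map ((TR R).map₂CochainComplex.obj K) (acyclic_left hK) f

/-- `L ◁ α` is a quasi-isomorphism if `α` is a quasi-isomorphism of K-flat complexes. -/
theorem quasiIso_whiskerLeft_of_kfl {P Q : DRing.Cx R} (α : P ⟶ Q) [QuasiIso α] (hP : KFl (TR R) P)
    (hQ : KFl (TR R) Q) (L : DRing.Cx R) :
    QuasiIso (L ◁ α : (L ⊗ P : DRing.Cx R) ⟶ (L ⊗ Q : DRing.Cx R)) := by
  obtain ⟨F, q, hq, -, hF, -⟩ := exists_resolution L
  have h1 := quasiIso_whiskerRight hP q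
  have h2 := quasiIso_whiskerRight hQ q
  have h3 := quasiIso_whiskerLeft hF α
  have h4 : QuasiIso ((q ▷ P) ≫ (L ◁ α)) := by
    rw [← whisker_exchange]
    infer_instance
  exact quasiIso_of_comp_left (q ▷ P) _

/-- `α ▷ L` is a quasi-isomorphism if `α` is a quasi-isomorphism of K-flat complexes. -/
theorem quasiIso_whiskerRight_of_kfl {P Q : DRing.Cx R} (α : P ⟶ Q) [QuasiIso α] (hP : KFl (TR R) P)
    (hQ : KFl (TR R) Q) (L : DRing.Cx R) :
    QuasiIso (α ▷ L : (P ⊗ L : DRing.Cx R) ⟶ (Q ⊗ L : DRing.Cx R)) := by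
  have h1 := quasiIso_whiskerLeft_of_kfl α hP hQ L
  have h2 : (α ▷ L : (P ⊗ L : DRing.Cx R) ⟶ (Q ⊗ L : DRing.Cx R)) =
      (tensorSymm L P).inv ≫ (L ◁ α) ≫ (tensorSymm L Q).hom := by
    rw [tensorSymm_naturality_right, Iso.inv_hom_id_assoc]
  rw [h2]
  infer_instance

end K226.KFlat
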