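import Groth.Agent.DRing.K229.SplitTrunc
import Groth.Agent.DRing.K226.TorAmpB

/-!
# Projective amplitude of objects of `D(R)`

* `tfae`: projective amplitude in `[a, b]` in terms of `Hom(K, N[i])`.
-/

set_option autoImplicit false

universe u

open CategoryTheory CategoryTheory.Limits HomologicalComplex

attribute [local instance] HasDerivedCategory.standard

namespace K226.ProjAmp

open DRing DerivedCategory K229.SplitTrunc Groth.Agent.Flat2C.TorAmpRestr

variable {R : Type u} [CommRing R]

/-- No maps from a complex of projectives in `[a, b]` to `N[i]` for `-i` outside `[a, b]`. -/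
lemma subsingleton_extD (P : Cx R) (a b : ℤ) (hP : VanishesOutside P a b)
    (hP' : ∀ i, Module.Projective R (P.X i)) (N : ModuleCat.{u} R) (i : ℤ) (hi : i < -b ∨ -a < i) :
    Subsingleton (toD P ⟶ ((singleFunctor (ModuleCat.{u} R) 0).obj N)⟦i⟧) := by
  let e : ((singleFunctor (ModuleCat.{u} R) 0).obj N)⟦i⟧ ≅
      toD ((single (ModuleCat.{u} R) (ComplexShape.up ℤ) (-i)).obj N) :=
    ((singleFunctors (ModuleCat.{u} R)).shiftIso i (-i) 0 (by omega)).app N ≪≫
      (singleFunctorIsoCompQ (ModuleCat.{u} R) (-i)).app N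
  have key : ∀ f : toD P ⟶ ((singleFunctor (ModuleCat.{u} R) 0).obj N)⟦i⟧, f = 0 := by
    intro f
    obtain ⟨φ, hφ⟩ := TorAmpB.exists_lift P ((single (ModuleCat.{u} R) (ComplexShape.up ℤ) (-i)).obj N) b
      (fun i hi => hP i (Or.inr hi)) (fun i => (IsProjective.iff_projective _).1 (hP' i)) (f ≫ e.hom)
    have h0 : φ = 0 := by
      apply HomologicalComplex.hom_ext
      intro j
      by_cases hj : j = -i
      · exact (hP j (by omega)).eq_of_src _ _
      · exact (isZero_single_obj_X (ComplexShape.up ℤ) (-i) N j hj).eq_of_tgt _ _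
    rw [h0, Functor.map_zero] at hφ
    rw [← cancel_mono e.hom, ← hφ, zero_comp]
  exact ⟨fun f g => (key f).trans (key g).symm⟩

/-- Projective representatives in `[a, b]` from the vanishing of `Hom(K, N[-a+1])`. -/
theorem exists_rep (K : Dual.D R) (a b : ℤ)
    (hb : ∀ n : ℤ, (n < a - 1 ∨ b < n) → Subsingleton (Dual.HD R K n))
    (h : ∀ (N : Type u) [AddCommGroup N] [Module R N],
      Subsingleton (K ⟶ (shiftFunctor (Dual.D R) (-(a - 1))).obj (Dual.inD R N))) :
    ∃ P : Cx R, VanishesOutside P a b ∧ (∀ i : ℤ, Module.Projective R (P.X i)) ∧ Nonempty (toD P ≅ K) := by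
  have h1 := subsingleton_of_hom (a - 1) K h
  obtain ⟨P, hP1, hP2, ⟨e⟩⟩ := K227.PerfFlat.exists_projective_rep K b (fun n hn => hb n (Or.inr hn))
  have h2 : Projective (P.opcycles a) := by
    have := projective_opcycles P (a - 1) K b hP1 hP2 e (fun M M' _ _ _ _ g hg x y _ => (h M).elim x y)
    rwa [show a - 1 + 1 = a by omega] at this
  obtain ⟨e'⟩ := Groth.Agent.Dcoh.BddCx.nonempty_iso_truncGE P K a
    (fun j hj => by
      have h3 : Subsingleton (Dual.HD R K j) := by
        by_cases hj' : j = a - 1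
        · rw [hj']; exact h1
        · exact hb j (Or.inl (by omega))
      exact @ModuleCat.isZero_of_subsingleton R _ _ h3)
    e.hom (fun j _ => inferInstance)
  refine ⟨P.truncGE a, ?_, ?_, ⟨e'.symm⟩⟩
  · rintro i (hi | hi)
    · exact (P.truncGE a).isZero_of_isStrictlyGE a i hi
    · exact Groth.Agent.Dcoh.BddCx.truncGE_isZero_of_lt P a b hP1 i hi
  · exact fun i => (IsProjective.iff_projective _).2 (Groth.Agent.Dcoh.BddCx.prop_truncGE_X
      (P := projProp R) (fun M h => (projProp R).prop_of_isZero h) P a h2 (fun i _ => hP2 i) i)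

theorem tfae (K : Dual.D R) (a b : ℤ) :
    [∃ P : DRing.Cx R, DRing.VanishesOutside P a b ∧ (∀ i : ℤ, Module.Projective R (P.X i)) ∧
        Nonempty (DRing.toD P ≅ K),
      ∀ (N : Type u) [AddCommGroup N] [Module R N] (i : ℤ), (i < -b ∨ -a < i) →
        Subsingleton (DRing.ExtD R K (Dual.inD R N) i),
      (∀ n : ℤ, b < n → Subsingleton (Dual.HD R K n)) ∧
        ∀ (N : Type u) [AddCommGroup N] [Module R N] (i : ℤ), -a < i → Subsingleton (DRing.ExtD R K (Dual.inD R N) i),
      (∀ n : ℤ, (n < a - 1 ∨ b < n) → Subsingleton (Dual.HD R K n)) ∧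
        ∀ (N : Type u) [AddCommGroup N] [Module R N], Subsingleton (DRing.ExtD R K (Dual.inD R N) (-a + 1))].TFAE := by
  tfae_have 1 → 2 := by
    rintro ⟨P, h1, h2, ⟨e⟩⟩ N _ _ i hi
    have := subsingleton_extD P a b h1 h2 (ModuleCat.of R N) i hi
    exact ⟨fun f g => by
      rw [← cancel_epi e.hom]
      exact Subsingleton.elim _ _⟩
  tfae_have 2 → 3 := by
    intro h
    exact ⟨fun n hn => subsingleton_of_hom n K fun M _ _ => h M (-n) (Or.inl (by omega)),
      fun N _ _ i hi => h N i (Or.inr hi)⟩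
  tfae_have 3 → 4 := by
    rintro ⟨h1, h2⟩
    refine ⟨?_, fun N _ _ => h2 N _ (by omega)⟩
    rintro n (hn | hn)
    · exact subsingleton_of_hom n K fun M _ _ => h2 M (-n) (by omega)
    · exact h1 n hn
  tfae_have 4 → 1 := by
    rintro ⟨h1, h2⟩
    refine exists_rep K a b h1 fun N _ _ => ?_
    rw [show -(a - 1) = -a + 1 by ring]
    exact h2 N
  tfae_finish

end K226.ProjAmp
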