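import Groth.Agent.DerCA.K365.PCRestrict
import Groth.Agent.DRing.K226.PCRing

/-!
# `Dual.inD A B` for an `A`-algebra `B` is the restriction of `B[0]`
-/

set_option autoImplicit false

open CategoryTheory CategoryTheory.Limits CategoryTheory.Pretriangulated

universe u

attribute [local instance] HasDerivedCategory.standard

namespace K226.ResAlg

open DerivedCategory DRing

/-- An `A`-module `M` with a semilinear identification with a `B`-module `N` is the restriction of `N`. -/
noncomputable def resIso {A B : Type u} [CommRing A] [CommRing B] (ψ : A →+* B) (M : ModuleCat.{u} A)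
    (N : ModuleCat.{u} B) (e : M ≃+ N) (he : ∀ (r : A) (x : M), e (r • x) = ψ r • e x) :
    M ≅ (ModuleCat.restrictScalars.{u} ψ).obj N :=
  let e' : M ≃ₗ[A] ((ModuleCat.restrictScalars.{u} ψ).obj N) := { e with map_smul' := he }
  e'.toModuleIso

theorem pcMap_algebraMap {A B : Type u} [CommRing A] [CommRing B] [Algebra A B]
    (hB : IsPseudoCoherentModule' A B) : K365.PCRestrict.PCMap (algebraMap A B) := fun n =>
  Groth.Agent.CalgB.PsCohGen.PC.of_iso (P := Groth.Agent.CalgB.PsCoh.ffree A)
    ((DerivedCategory.singleFunctor (ModuleCat.{u} A) 0).mapIso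
      (resIso (algebraMap A B) (ModuleCat.of A B) (ModuleCat.of B B) (AddEquiv.refl B)
        (fun r x => Algebra.smul_def r x)))
    ((K226.PCRing.isPseudoCoherent'_iff _).1 hB n)

end K226.ResAlg
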