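import Groth.Agent.Flat2C.TorAmpRestr

/-!
# Tor amplitude and flatness of cokernels
-/

set_option autoImplicit false

universe u

open CategoryTheory CategoryTheory.Limits
attribute [local instance] HasDerivedCategory.standard

namespace K226.TorAmp

open DRing Groth.Agent.Flat2C.TorAmpCone Groth.Agent.Flat2C.TorAmpRestr

variable {R : Type u} [CommRing R]

/-- the cokernel of a map out of a zero object -/
lemma flat_cok_of_isZero (E : Cx R) {h i : ℤ} (h0 : IsZero (E.X h)) (hf : Module.Flat R (E.X i)) :
    Module.Flat R (Cok E h i) := by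
  have h1 : E.d h i = 0 := h0.eq_of_src _ _
  have h2 : LinearMap.range (E.d h i).hom = ⊥ := by
    rw [h1]
    exact LinearMap.range_zero
  exact Module.Flat.of_linearEquiv (Submodule.quotEquivOfEqBot _ h2)

/-- The cokernel in degree `a` of a bounded above complex of flat modules of tor amplitude `[a, c]` is flat. -/
theorem flat_cok (K : Cx R) (b : ℤ) (hb : VanishesAbove K b) (hflat : TermwiseFlat K) (a c : ℤ)
    (hamp : HasTorAmplitudeIn R a c (toD K)) {h : ℤ} (hh : h + 1 = a) : Module.Flat R (Cok K h a) := by
  obtain ⟨E, hE, hEf, ⟨e⟩⟩ := hamp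
  refine (flat_cok_iff_of_iso (max b c) K E (fun i hi => hb i (lt_of_le_of_lt (le_max_left _ _) hi))
    (fun i hi => hE i (Or.inr (lt_of_le_of_lt (le_max_right _ _) hi))) hflat hEf e.symm hh).2 ?_
  exact flat_cok_of_isZero E (hE h (Or.inl (by lia))) (hEf a)

end K226.TorAmp
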