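import Groth.Agent.DRing.K227.TorCrit
import Groth.Agent.DRing.K226.TorAmpB
import Groth.Agent.DRing.K229.Devissage
import Groth.Agent.Flat2H.TorDim

/-!
# Tor amplitude in distinguished triangles, finite tor dimension

* `torAmp_obj₃`, `torAmp_obj₂`, `torAmp_obj₁`: tor amplitude in a distinguished triangle of `D(A)`.
-/

set_option autoImplicit false
universe u

open CategoryTheory CategoryTheory.Limits CategoryTheory.Pretriangulated
open scoped ZeroObject
attribute [local instance] HasDerivedCategory.standard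

namespace K226.TorTri

open DRing Groth.Agent Groth.Agent.Flat2C Groth.Agent.Flat2C.TorAmpRestr K227.PerfFlat K227.TorCrit

variable {A : Type u} [CommRing A]

/-- Tensoring with a module commutes with cones; exactness of the cone. -/
lemma exactAt_tensorCx_mappingCone {P Q : Cx A} (φ : P ⟶ Q) (M : ModuleCat.{u} A) (i : ℤ)
    (hP : (tensorCx P M).ExactAt (i + 1)) (hQ : (tensorCx Q M).ExactAt i) :
    (tensorCx (CochainComplex.mappingCone φ) M).ExactAt i := by
  have e : tensorCx (CochainComplex.mappingCone φ) M ≅ CochainComplex.mappingCone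
      (((MonoidalCategory.tensorRight M).mapHomologicalComplex (ComplexShape.up ℤ)).map φ) :=
    CochainComplex.mappingCone.mapHomologicalComplexIso φ (MonoidalCategory.tensorRight M)
  rw [HomologicalComplex.exactAt_iff_isZero_homology] at hP hQ ⊢
  refine IsZero.of_iso ?_ ((HomologicalComplex.homologyFunctor _ _ i).mapIso e)
  set ψ := ((MonoidalCategory.tensorRight M).mapHomologicalComplex (ComplexShape.up ℤ)).map φ
  have hT := DerivedCategory.mappingCone_triangle_distinguished ψ
  have h1 : IsZero ((DerivedCategory.homologyFunctor (ModuleCat.{u} A) i).obj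
      (DerivedCategory.Q.mapTriangle.obj (CochainComplex.mappingCone.triangle ψ)).obj₂) :=
    hQ.of_iso ((DerivedCategory.homologyFunctorFactors (ModuleCat.{u} A) i).app _)
  have h2 : IsZero ((DerivedCategory.homologyFunctor (ModuleCat.{u} A) (i + 1)).obj
      (DerivedCategory.Q.mapTriangle.obj (CochainComplex.mappingCone.triangle ψ)).obj₁) :=
    hP.of_iso ((DerivedCategory.homologyFunctorFactors (ModuleCat.{u} A) (i + 1)).app _)
  have h3 := Dcoh.BddCx.isZero_homology_obj₃ _ hT i (i + 1) rfl
    ⟨fun _ _ _ => h1.eq_of_src _ _⟩ ⟨fun _ _ _ => h2.eq_of_tgt _ _⟩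
  exact h3.of_iso ((DerivedCategory.homologyFunctorFactors (ModuleCat.{u} A) i).app _).symm

lemma projective_mappingCone {P Q : Cx A} (φ : P ⟶ Q) (hP : ∀ i, Projective (P.X i))
    (hQ : ∀ i, Projective (Q.X i)) (i : ℤ) : Projective ((CochainComplex.mappingCone φ).X i) := by
  have := hP (i + 1)
  have := hQ i
  exact Projective.of_iso (HomologicalComplex.homotopyCofiber.XIsoBiprod φ i (i + 1) rfl).symm inferInstance

lemma vanishesAbove_mappingCone {P Q : Cx A} (φ : P ⟶ Q) {b : ℤ} (hP : VanishesAbove P (b + 1))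
    (hQ : VanishesAbove Q b) : VanishesAbove (CochainComplex.mappingCone φ) b := by
  intro i hi
  refine IsZero.of_iso ?_ (HomologicalComplex.homotopyCofiber.XIsoBiprod φ i (i + 1) rfl)
  exact (biprod_isZero_iff _ _).2 ⟨hP _ (by omega), hQ _ hi⟩

/-- Tor amplitude of the third object of a distinguished triangle. -/
theorem torAmp_obj₃ {T : Triangle (Dual.D A)} (hT : T ∈ distTriang (Dual.D A)) {a b : ℤ}
    (h1 : HasTorAmplitudeIn A (a + 1) (b + 1) T.obj₁) (h2 : HasTorAmplitudeIn A a b T.obj₂) :
    HasTorAmplitudeIn A a b T.obj₃ := by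
  obtain ⟨P, hP1, hP2, ⟨e1⟩⟩ := exists_projective_rep T.obj₁ (b + 1)
    (fun i hi => subsingleton_HD_of_torAmp h1 i (Or.inr hi))
  obtain ⟨Q, hQ1, hQ2, ⟨e2⟩⟩ := exists_projective_rep T.obj₂ b
    (fun i hi => subsingleton_HD_of_torAmp h2 i (Or.inr hi))
  obtain ⟨φ, hφ⟩ := TorAmpB.exists_lift P Q (b + 1) hP1 hP2 (e1.hom ≫ T.mor₁ ≫ e2.inv)
  have hT' := DerivedCategory.mappingCone_triangle_distinguished φ
  have e : DerivedCategory.Q.mapTriangle.obj (CochainComplex.mappingCone.triangle φ) ≅ T :=
    isoTriangleOfIso₁₂ _ _ hT' hT e1 e2 (by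
      change DerivedCategory.Q.map φ ≫ e2.hom = e1.hom ≫ T.mor₁
      rw [hφ, Category.assoc, Category.assoc, e2.inv_hom_id, Category.comp_id])
  refine torAmp_of_iso (Triangle.π₃.mapIso e) ?_
  change HasTorAmplitudeIn A a b (toD (CochainComplex.mappingCone φ))
  have h1' := torAmp_of_iso e1.symm h1
  have h2' := torAmp_of_iso e2.symm h2
  rw [torAmp_iff_tensorCx P (b + 1) hP1 (fun i => flat_of_projective (hP2 i))] at h1'
  rw [torAmp_iff_tensorCx Q b hQ1 (fun i => flat_of_projective (hQ2 i))] at h2'
  rw [torAmp_iff_tensorCx (CochainComplex.mappingCone φ) b (vanishesAbove_mappingCone φ hP1 hQ1)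
    (fun i => flat_of_projective (projective_mappingCone φ hP2 hQ2 i))]
  intro M i hi
  exact exactAt_tensorCx_mappingCone φ M i (h1' M (i + 1) (by omega)) (h2' M i hi)

/-- Tor amplitude of the second object of a distinguished triangle. -/
theorem torAmp_obj₂ {T : Triangle (Dual.D A)} (hT : T ∈ distTriang (Dual.D A)) {a b : ℤ}
    (h1 : HasTorAmplitudeIn A a b T.obj₁) (h3 : HasTorAmplitudeIn A a b T.obj₃) :
    HasTorAmplitudeIn A a b T.obj₂ := by
  have h := torAmp_obj₃ (inv_rot_of_distTriang _ hT) (a := a) (b := b) ?_ h1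
  · exact h
  · have := torAmp_shift (-1) h3
    rw [sub_neg_eq_add, sub_neg_eq_add] at this
    exact this

/-- Tor amplitude of the first object of a distinguished triangle. -/
theorem torAmp_obj₁ {T : Triangle (Dual.D A)} (hT : T ∈ distTriang (Dual.D A)) {a b : ℤ}
    (h2 : HasTorAmplitudeIn A (a + 1) (b + 1) T.obj₂) (h3 : HasTorAmplitudeIn A a b T.obj₃) :
    HasTorAmplitudeIn A (a + 1) (b + 1) T.obj₁ := by
  have h := torAmp_obj₂ (inv_rot_of_distTriang _ hT) (a := a + 1) (b := b + 1) ?_ h2
  · exact h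
  · have := torAmp_shift (-1) h3
    rw [sub_neg_eq_add, sub_neg_eq_add] at this
    exact this

lemma torAmp_single_of_flat (M : ModuleCat.{u} A) (h : Module.Flat A M) :
    HasTorAmplitudeIn A 0 0 ((DerivedCategory.singleFunctor (ModuleCat.{u} A) 0).obj M) := by
  refine ⟨(CochainComplex.singleFunctor (ModuleCat.{u} A) 0).obj M, ?_, ?_,
    ⟨((DerivedCategory.singleFunctorIsoCompQ (ModuleCat.{u} A) 0).app M).symm⟩⟩
  · intro i hi
    exact HomologicalComplex.isZero_single_obj_X (ComplexShape.up ℤ) 0 M i (by omega)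
  · intro i
    by_cases hi : i = 0
    · subst hi
      exact Module.Flat.of_linearEquiv
        (HomologicalComplex.singleObjXSelf (ComplexShape.up ℤ) 0 M).toLinearEquiv
    · have := ModuleCat.subsingleton_of_isZero
        (HomologicalComplex.isZero_single_obj_X (ComplexShape.up ℤ) 0 M i hi)
      change Module.Flat A (((HomologicalComplex.single (ModuleCat.{u} A) (ComplexShape.up ℤ) 0).obj M).X i)
      infer_instance

lemma torAmp_of_subsingleton_HD {K : Dual.D A} {a b b' : ℤ} (h : HasTorAmplitudeIn A a b K)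
    (hb : ∀ i, b' < i → Subsingleton (Dual.HD A K i)) : HasTorAmplitudeIn A a b' K := by
  obtain ⟨P, h1, h2, ⟨e⟩⟩ := exists_projective_rep K b' hb
  have h3 := torAmp_of_iso e.symm h
  refine torAmp_of_iso e ?_
  rw [torAmp_iff_tensorCx P b' h1 (fun i => flat_of_projective (h2 i))]
  rintro M i (hi | hi)
  · have h4 : HasTorAmplitudeIn A a (max b b') (toD P) := torAmp_mono le_rfl (le_max_left _ _) h3
    rw [torAmp_iff_tensorCx P b' h1 (fun i => flat_of_projective (h2 i))] at h4
    exact h4 M i (Or.inl hi)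
  · refine HomologicalComplex.ExactAt.of_isZero ?_
    exact (MonoidalCategory.tensorRight M).map_isZero (h1 i hi)

lemma shortExact_ker {F M : Type u} [AddCommGroup F] [Module A F] [AddCommGroup M] [Module A M]
    (f : F →ₗ[A] M) (hf : Function.Surjective f) :
    (ShortComplex.mk (ModuleCat.ofHom (LinearMap.ker f).subtype) (ModuleCat.ofHom f)
      (by ext x; exact x.2)).ShortExact :=
  Flat2H.TorDim.shortExact_mk (LinearMap.ker f).subtype f (Submodule.subtype_injective _) hf
    (LinearMap.exact_subtype_ker_map f)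

/-- A module of tor dimension `≤ d` (vanishing of `Tor_p` for `p > d`) has tor amplitude in `[-d, 0]`. -/
theorem torAmp_of_hasTorDimLE (d : ℕ) : ∀ (M : Type u) [AddCommGroup M] [Module A M], HasTorDimLE A d M →
    HasTorAmplitudeIn A (-(d : ℤ)) 0 (Dual.inD A M) := by
  induction d with
  | zero =>
    intro M _ _ h
    rw [Flat2H.TorDim.hasTorDimLE_zero_iff] at h
    exact torAmp_single_of_flat (ModuleCat.of A M) h
  | succ d ih =>
    intro M _ _ h
    have hs := Finsupp.linearCombination_id_surjective A M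
    rw [Flat2H.TorDim.hasTorDimLE_succ_iff_ker _ hs] at h
    have h1 := ih _ h
    have h2 := torAmp_single_of_flat (ModuleCat.of A (M →₀ A)) (inferInstanceAs (Module.Flat A (M →₀ A)))
    have hS := shortExact_ker (Finsupp.linearCombination A (id : M → M)) hs
    have hT := hS.singleTriangle_distinguished
    refine torAmp_mono (by push_cast; omega) le_rfl (torAmp_obj₃ hT (a := -(d : ℤ) - 1) (b := 0) ?_ ?_)
    · exact torAmp_mono (by omega) (by omega) h1
    · exact torAmp_mono (by omega) (by omega) h2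

/-- The converse: a module of tor amplitude in `[-d, 0]` has tor dimension `≤ d`. -/
theorem hasTorDimLE_of_torAmp (d : ℕ) : ∀ (M : Type u) [AddCommGroup M] [Module A M],
    HasTorAmplitudeIn A (-(d : ℤ)) 0 (Dual.inD A M) → HasTorDimLE A d M := by
  induction d with
  | zero =>
    rintro M _ _ ⟨E, h1, h2, ⟨e⟩⟩
    rw [Flat2H.TorDim.hasTorDimLE_zero_iff]
    have h3 : (E.homology 0) ≅ ModuleCat.of A M :=
      ((DerivedCategory.homologyFunctorFactors (ModuleCat.{u} A) 0).symm.app E) ≪≫
        (DerivedCategory.homologyFunctor (ModuleCat.{u} A) 0).mapIso e ≪≫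
        (DerivedCategory.singleFunctorCompHomologyFunctorIso (ModuleCat.{u} A) 0).app (ModuleCat.of A M)
    have h4 : IsZero (E.X (-1)) := h1 _ (by simp)
    have h5 : IsZero (E.X 1) := h1 _ (by simp)
    have h6 : IsIso (E.iCycles 0) := E.isIso_iCycles 0 1 (by simp) (h5.eq_of_tgt _ _)
    have h7 : IsIso (E.homologyπ 0) := E.isIso_homologyπ (-1) 0 (by simp) (h4.eq_of_src _ _)
    have h8 := h2 0
    exact Module.Flat.of_linearEquiv (h3.symm ≪≫ (asIso (E.homologyπ 0)).symm ≪≫ asIso (E.iCycles 0)).toLinearEquiv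
  | succ d ih =>
    intro M _ _ h
    have hs := Finsupp.linearCombination_id_surjective A M
    rw [Flat2H.TorDim.hasTorDimLE_succ_iff_ker _ hs]
    refine ih _ ?_
    have h2 := torAmp_single_of_flat (ModuleCat.of A (M →₀ A)) (inferInstanceAs (Module.Flat A (M →₀ A)))
    have hS := shortExact_ker (Finsupp.linearCombination A (id : M → M)) hs
    have hT := hS.singleTriangle_distinguished
    refine torAmp_of_subsingleton_HD (b := 1)
      (torAmp_mono (by omega) (by omega) (torAmp_obj₁ hT (a := -(d : ℤ) - 1) (b := 0) ?_ ?_)) ?_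
    · exact torAmp_mono (by omega) (by omega) h2
    · exact torAmp_mono (by push_cast; omega) (by omega) h
    · intro i hi
      exact ModuleCat.subsingleton_of_isZero (DerivedCategory.isZero_of_isLE
        ((DerivedCategory.singleFunctor (ModuleCat.{u} A) 0).obj _) 0 i hi)

/-- The objects of finite tor dimension. -/
def finTor (A : Type u) [CommRing A] : ObjectProperty (Dual.D A) := fun K => HasFiniteTorDimCx A K

instance : (finTor A).IsClosedUnderIsomorphisms where
  of_iso e h := by
    obtain ⟨a, b, h⟩ := h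
    exact ⟨a, b, torAmp_of_iso e h⟩

instance : (finTor A).ContainsZero where
  exists_zero := ⟨_, isZero_zero _, 0, 0, 0, fun i _ => (HomologicalComplex.eval _ _ i).map_isZero (isZero_zero _),
    fun i => by
      have := ModuleCat.subsingleton_of_isZero
        ((HomologicalComplex.eval (ModuleCat.{u} A) (ComplexShape.up ℤ) i).map_isZero (isZero_zero _))
      change Subsingleton ((0 : Cx A).X i) at this
      infer_instance, ⟨(DerivedCategory.Q.map_isZero (isZero_zero _)).isoZero⟩⟩

instance : (finTor A).IsTriangulatedClosed₂ := by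
  refine ⟨fun T hT h1 h3 => ObjectProperty.le_isoClosure _ _ ?_⟩
  obtain ⟨a, b, h1⟩ := h1
  obtain ⟨a', b', h3⟩ := h3
  exact ⟨min a a', max b b', torAmp_obj₂ hT (torAmp_mono (min_le_left _ _) (le_max_left _ _) h1)
    (torAmp_mono (min_le_right _ _) (le_max_right _ _) h3)⟩

lemma finTor_shift {K : Dual.D A} (n : ℤ) (h : HasFiniteTorDimCx A K) : HasFiniteTorDimCx A (K⟦n⟧) := by
  obtain ⟨a, b, h⟩ := h
  exact ⟨_, _, torAmp_shift n h⟩

/-- Bounded cohomology and all cohomology modules of finite tor dimension: finite tor dimension. -/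
theorem hasFiniteTorDimCx_of_homology (K : Dual.D A) (a b : ℤ)
    (hb : ∀ i : ℤ, i < a ∨ b < i → Subsingleton (Dual.HD A K i))
    (h : ∀ i : ℤ, HasFiniteTorDim A (Dual.HD A K i)) : HasFiniteTorDimCx A K := by
  refine K229.Devissage.homology (finTor A) K a b
    (fun i hi => @ModuleCat.isZero_of_subsingleton A _ _ (hb i hi)) fun i => ?_
  obtain ⟨d, hd⟩ := h i
  have h1 : HasFiniteTorDimCx A ((DerivedCategory.singleFunctor (ModuleCat.{u} A) 0).obj
      ((DerivedCategory.homologyFunctor (ModuleCat.{u} A) i).obj K)) := ⟨_, _, torAmp_of_hasTorDimLE d _ hd⟩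
  have h2 := finTor_shift (-i) h1
  exact (finTor A).prop_of_iso
    (((DerivedCategory.singleFunctors (ModuleCat.{u} A)).shiftIso (-i) i 0 (by omega)).app _) h2

end K226.TorTri
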